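/-
Permutation groups with a quasisimple generalized Fitting subgroup: elementary lemmas on supports.
-/
import Mathlib
import Cfsg.Agent.Lib.Components.GenFitting
import Cfsg.Agent.Lib.Components.Basic

set_option autoImplicit false
set_option linter.style.haveILetI false

namespace Cfsg.Agent.Lib.LAEven56.PermQS

open Equiv
open scoped commutatorElement

variable {α : Type*}

/-- `L` behaves inside `H` like a quasisimple generalized Fitting subgroup. -/
structure QS (H L : Subgroup (Perm α)) : Prop where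
  le : L ≤ H
  conj : ∀ h ∈ H, ∀ l ∈ L, h * l * h⁻¹ ∈ L
  perfect : ⁅L, L⁆ = L
  ne_bot : L ≠ ⊥
  central : ∀ N : Subgroup (Perm α), N ≤ L → (∀ l ∈ L, ∀ x ∈ N, l * x * l⁻¹ ∈ N) → N ≠ L →
    ∀ x ∈ N, ∀ l ∈ L, Commute x l
  cent : ∀ h ∈ H, (∀ l ∈ L, Commute h l) → h ∈ L

variable {H L : Subgroup (Perm α)}

theorem QS.not_comm (hq : QS H L) (h : ∀ x ∈ L, ∀ y ∈ L, Commute x y) : False := by
  refine hq.ne_bot ?_
  rw [← hq.perfect, Subgroup.commutator_eq_bot_iff_le_centralizer]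
  exact fun x hx => Subgroup.mem_centralizer_iff.2 fun y hy => h y hy x hx

/-- The members of `L` commuting with a fixed element, given that all `[t, l]` are central. -/
theorem QS.commute_of_central (hq : QS H L) {t : Perm α} (hn : ∀ l ∈ L, t * l * t⁻¹ ∈ L)
    (hc : ∀ l ∈ L, ∀ x ∈ L, Commute (t * l * t⁻¹ * l⁻¹) x) : ∀ l ∈ L, Commute t l := by
  let S : Subgroup (Perm α) := Subgroup.centralizer {t}
  suffices L ≤ S from fun l hl => Subgroup.mem_centralizer_iff.1 (this hl) t rfl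
  conv_lhs => rw [← hq.perfect]
  rw [Subgroup.commutator_le]
  intro a ha b hb
  rw [Subgroup.mem_centralizer_iff]
  intro t' ht'
  rw [Set.mem_singleton_iff.1 ht']
  set za := t * a * t⁻¹ * a⁻¹ with hza
  set zb := t * b * t⁻¹ * b⁻¹ with hzb
  have h1 : t * ⁅a, b⁆ * t⁻¹ = ⁅za * a, zb * b⁆ := by
    rw [hza, hzb, commutatorElement_def, commutatorElement_def]; group
  have hzaL : za ∈ L := L.mul_mem (hn a ha) (L.inv_mem ha)
  have hzbL : zb ∈ L := L.mul_mem (hn b hb) (L.inv_mem hb)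
  have e1 : za * a = a * za := (hc a ha a ha).eq
  have c1 : Commute za (zb * b) := hc a ha _ (L.mul_mem hzbL hb)
  have c2 : Commute zb a := hc b hb a ha
  have h2 : ⁅za * a, zb * b⁆ = ⁅a, b⁆ := by
    calc ⁅za * a, zb * b⁆ = za * (a * (zb * b) * a⁻¹) * za⁻¹ * (zb * b)⁻¹ := by
          rw [commutatorElement_def]; group
      _ = (a * (zb * b) * a⁻¹) * za * za⁻¹ * (zb * b)⁻¹ := by
          rw [(hc a ha _ (L.mul_mem (L.mul_mem ha (L.mul_mem hzbL hb)) (L.inv_mem ha))).eq]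
      _ = (a * zb) * b * a⁻¹ * b⁻¹ * zb⁻¹ := by group
      _ = zb * ⁅a, b⁆ * zb⁻¹ := by rw [← c2.eq, commutatorElement_def]; group
      _ = ⁅a, b⁆ := by
          rw [(hc b hb _ (show ⁅a, b⁆ ∈ L by
            rw [← hq.perfect]; exact Subgroup.commutator_mem_commutator ha hb)).eq, mul_inv_cancel_right]
  rw [h2] at h1
  exact mul_inv_eq_iff_eq_mul.1 h1

/-- A commutative subgroup normalised by `H` centralises `L`. -/
theorem QS.commute_of_comm (hq : QS H L) (N : Subgroup (Perm α)) (hN : N ≤ H)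
    (hNc : ∀ x ∈ N, ∀ y ∈ N, Commute x y) (hNn : ∀ h ∈ H, ∀ x ∈ N, h * x * h⁻¹ ∈ N) :
    ∀ x ∈ N, ∀ l ∈ L, Commute x l := by
  intro x hx
  refine hq.commute_of_central (fun l hl => hq.conj x (hN hx) l hl) fun l hl y hy => ?_
  refine hq.central (N ⊓ L) inf_le_right ?_ ?_ _ ⟨?_, ?_⟩ y hy
  · exact fun a ha b hb => ⟨hNn a (hq.le ha) b hb.1, L.mul_mem (L.mul_mem ha hb.2) (L.inv_mem ha)⟩
  · intro he
    exact hq.not_comm fun a ha b hb => hNc a (he.symm.le ha).1 b (he.symm.le hb).1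
  · rw [show x * l * x⁻¹ * l⁻¹ = x * (l * x⁻¹ * l⁻¹) by group]
    exact N.mul_mem hx (hNn l (hq.le hl) _ (N.inv_mem hx))
  · exact L.mul_mem (hq.conj x (hN hx) l hl) (L.inv_mem hl)

/-- A kernel either contains `L` or centralises it. -/
theorem QS.le_or_commute (hq : QS H L) (K : Subgroup (Perm α)) (hK : K ≤ H)
    (hKn : ∀ h ∈ H, ∀ x ∈ K, h * x * h⁻¹ ∈ K) : L ≤ K ∨ ∀ x ∈ K, ∀ l ∈ L, Commute x l := by
  by_cases hLK : L ≤ K
  · exact Or.inl hLK
  refine Or.inr fun x hx => hq.commute_of_central (fun l hl => hq.conj x (hK hx) l hl) fun l hl y hy => ?_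
  refine hq.central (K ⊓ L) inf_le_right ?_ ?_ _ ⟨?_, ?_⟩ y hy
  · exact fun a ha b hb => ⟨hKn a (hq.le ha) b hb.1, L.mul_mem (L.mul_mem ha hb.2) (L.inv_mem ha)⟩
  · exact fun he => hLK fun a ha => (he.symm.le ha).1
  · rw [show x * l * x⁻¹ * l⁻¹ = x * (l * x⁻¹ * l⁻¹) by group]
    exact K.mul_mem hx (hKn l (hq.le hl) _ (K.inv_mem hx))
  · exact L.mul_mem (hq.conj x (hK hx) l hl) (L.inv_mem hl)

/-- An element supported in an `L`-invariant set outside which `L` is nontrivial centralises `L`. -/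
theorem QS.commute_of_supported (hq : QS H L) (O : Set α) (hO : ∀ l ∈ L, ∀ a, a ∈ O → l a ∈ O)
    {t : Perm α} (hn : ∀ l ∈ L, t * l * t⁻¹ ∈ L) (ht : ∀ a ∉ O, t a = a)
    (hL : ∃ l ∈ L, ∃ a ∉ O, l a ≠ a) : ∀ l ∈ L, Commute t l := by
  have hOc : ∀ l ∈ L, ∀ a ∉ O, l a ∉ O := fun l hl a ha h => ha (by
    simpa using hO l⁻¹ (L.inv_mem hl) _ h)
  let N : Subgroup (Perm α) :=
    { carrier := {x | x ∈ L ∧ ∀ a ∉ O, x a = a}
      one_mem' := ⟨L.one_mem, fun a _ => rfl⟩
      mul_mem' := fun {x y} hx hy => ⟨L.mul_mem hx.1 hy.1, fun a ha => by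
        rw [Perm.mul_apply, hy.2 a ha, hx.2 a ha]⟩
      inv_mem' := fun {x} hx => ⟨L.inv_mem hx.1, fun a ha => by
        rw [Perm.inv_eq_iff_eq, hx.2 a ha]⟩ }
  obtain ⟨l₀, hl₀, a₀, ha₀, hne⟩ := hL
  refine hq.commute_of_central hn fun l hl y hy => ?_
  refine hq.central N (fun x hx => hx.1) ?_ (fun he => hne ((he.symm.le hl₀).2 a₀ ha₀)) _ ?_ y hy
  · intro g hg x hx
    refine ⟨L.mul_mem (L.mul_mem hg hx.1) (L.inv_mem hg), fun a ha => ?_⟩
    rw [Perm.mul_apply, Perm.mul_apply, hx.2 _ (hOc _ (L.inv_mem hg) a ha)]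
    simp
  · refine ⟨L.mul_mem (hn l hl) (L.inv_mem hl), fun a ha => ?_⟩
    have h1 := hOc _ (L.inv_mem hl) a ha
    have h2 : t⁻¹ (l⁻¹ a) = l⁻¹ a := by rw [Perm.inv_eq_iff_eq, ht _ h1]
    rw [Perm.mul_apply, Perm.mul_apply, Perm.mul_apply, h2]
    simp [ht a ha]

/-- `L` fixes pointwise any invariant set on which it acts commutatively. -/
theorem QS.fix_of_comm_on (hq : QS H L) (S : Set α) (hS : ∀ l ∈ L, ∀ a ∈ S, l a ∈ S)
    (hab : ∀ l ∈ L, ∀ l' ∈ L, ∀ a ∈ S, l (l' a) = l' (l a)) : ∀ l ∈ L, ∀ a ∈ S, l a = a := by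
  let F : Subgroup (Perm α) :=
    { carrier := {x | ∀ a ∈ S, x a = a}
      one_mem' := fun a _ => rfl
      mul_mem' := fun {x y} hx hy a ha => by rw [Perm.mul_apply, hy a ha, hx a ha]
      inv_mem' := fun {x} hx a ha => by rw [Perm.inv_eq_iff_eq, hx a ha] }
  suffices L ≤ F from fun l hl => this hl
  conv_lhs => rw [← hq.perfect]
  rw [Subgroup.commutator_le]
  intro x hx y hy a ha
  rw [commutatorElement_def, Perm.mul_apply, Perm.mul_apply, Perm.mul_apply]
  have hb : x⁻¹ (y⁻¹ a) ∈ S := hS _ (L.inv_mem hx) _ (hS _ (L.inv_mem hy) _ ha)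
  rw [hab x hx y hy _ hb]
  simp

theorem QS.fix_pair (hq : QS H L) {a b : α} (h : ∀ l ∈ L, ∀ x ∈ ({a, b} : Set α), l x ∈ ({a, b} : Set α)) :
    ∀ l ∈ L, l a = a := by
  refine fun l hl => hq.fix_of_comm_on {a, b} h ?_ l hl a (Or.inl rfl)
  intro x hx y hy c hc
  by_cases hab : a = b
  · subst hab
    have hx' := h x hx a (Or.inl rfl)
    have hy' := h y hy a (Or.inl rfl)
    simp only [Set.mem_insert_iff, Set.mem_singleton_iff, or_self] at hc hx' hy'
    rw [hc, hy', hx', hy']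
  have hxa := h x hx a (Or.inl rfl)
  have hxb := h x hx b (Or.inr rfl)
  have hya := h y hy a (Or.inl rfl)
  have hyb := h y hy b (Or.inr rfl)
  simp only [Set.mem_insert_iff, Set.mem_singleton_iff] at hc hxa hxb hya hyb
  have hx1 := x.injective.ne hab
  have hy1 := y.injective.ne hab
  rcases hc with rfl | rfl <;> rcases hxa with h1 | h1 <;> rcases hxb with h2 | h2 <;>
    rcases hya with h3 | h3 <;> rcases hyb with h4 | h4 <;> simp_all

/-- A point fixed by `L` has its whole orbit fixed. -/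
theorem QS.fix_orbit (hq : QS H L) {a : α} (ha : ∀ l ∈ L, l a = a) {h : Perm α} (hh : h ∈ H) :
    ∀ l ∈ L, l (h a) = h a := by
  intro l hl
  have := ha _ (hq.conj h⁻¹ (H.inv_mem hh) l hl)
  simp only [inv_inv, Perm.mul_apply, Perm.inv_eq_iff_eq] at this
  exact this

/-- If `L` centralises a double transposition pair generating a regular four group on four points,
it fixes these four points. -/
theorem QS.fix_quad (hq : QS H L) {v s : Perm α} {a₀ : α} (hv : ∀ l ∈ L, Commute v l)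
    (hs : ∀ l ∈ L, Commute s l) (hvs : Commute v s)
    (hQ : ∀ a, v a ≠ a ↔ a = a₀ ∨ a = v a₀ ∨ a = s a₀ ∨ a = v (s a₀)) :
    ∀ l ∈ L, ∀ a, v a ≠ a → l a = a := by
  refine hq.fix_of_comm_on {a | v a ≠ a} ?_ ?_
  · intro l hl a ha he
    rw [← Perm.mul_apply, (hv l hl).eq, Perm.mul_apply] at he
    exact ha (l.injective he)
  intro x hx y hy a ha
  have hw : ∀ b, v b ≠ b → ∃ w : Perm α, (∀ l ∈ L, Commute w l) ∧ (w = 1 ∨ w = v ∨ w = s ∨ w = v * s) ∧
      w a₀ = b := by
    intro b hb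
    rcases (hQ b).1 hb with rfl | rfl | rfl | rfl
    · exact ⟨1, fun l _ => Commute.one_left l, Or.inl rfl, rfl⟩
    · exact ⟨v, hv, Or.inr (Or.inl rfl), rfl⟩
    · exact ⟨s, hs, Or.inr (Or.inr (Or.inl rfl)), rfl⟩
    · exact ⟨v * s, fun l hl => (hv l hl).mul_left (hs l hl), Or.inr (Or.inr (Or.inr rfl)), rfl⟩
  have hmv : ∀ l ∈ L, v (l a₀) ≠ l a₀ := fun l hl he => by
    rw [← Perm.mul_apply, (hv l hl).eq, Perm.mul_apply] at he
    exact (hQ a₀).2 (Or.inl rfl) (l.injective he)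
  obtain ⟨wa, hwa, hwa', rfl⟩ := hw a ha
  obtain ⟨wx, hwx, hwx', hxe⟩ := hw _ (hmv x hx)
  obtain ⟨wy, hwy, hwy', hye⟩ := hw _ (hmv y hy)
  have hc : Commute wx wy := by
    rcases hwx' with h | h | h | h <;> rcases hwy' with h' | h' | h' | h' <;> rw [h, h'] <;>
      first
        | exact Commute.one_left _
        | exact Commute.one_right _
        | exact Commute.refl _
        | exact hvs
        | exact hvs.symm
        | exact (Commute.refl v).mul_right hvs
        | exact ((Commute.refl v).mul_right hvs).symm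
        | exact hvs.symm.mul_right (Commute.refl s)
        | exact (hvs.symm.mul_right (Commute.refl s)).symm
  have ha0 : ∀ (l : Perm α), l ∈ L → ∀ (w : Perm α), (∀ l ∈ L, Commute w l) →
      l (w a₀) = w (l a₀) := fun l hl w hw => by
    rw [← Perm.mul_apply, ← (hw l hl).eq, Perm.mul_apply]
  rw [ha0 y hy wa hwa, ha0 x hx wa hwa, ← hye, ← hxe,
    ← Perm.mul_apply wa wy a₀, ← Perm.mul_apply wa wx a₀,
    ha0 x hx (wa * wy) (fun l hl => (hwa l hl).mul_left (hwy l hl)),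
    ha0 y hy (wa * wx) (fun l hl => (hwa l hl).mul_left (hwx l hl)), ← hye, ← hxe]
  simp only [← Perm.mul_apply]
  rw [mul_assoc, mul_assoc, hc.symm.eq]

variable [Finite α]

/-- The generalized Fitting subgroup, when quasisimple, has these properties. -/
theorem qs_fstar (H : Subgroup (Perm α))
    (hF : Cfsg.IsQuasisimple ↥(Cfsg.generalizedFittingSubgroup ↥H)) :
    QS H ((Cfsg.generalizedFittingSubgroup ↥H).map H.subtype) := by
  set F := Cfsg.generalizedFittingSubgroup ↥H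
  haveI : F.Normal := inferInstance
  haveI := hF.1
  refine ⟨Subgroup.map_subtype_le F, ?_, ?_, ?_, ?_, ?_⟩
  · rintro h hh _ ⟨l, hl, rfl⟩
    exact ⟨⟨h, hh⟩ * l * ⟨h, hh⟩⁻¹, Subgroup.Normal.conj_mem inferInstance l hl _, rfl⟩
  · rw [← Subgroup.map_commutator]
    congr 1
    have := Subgroup.map_commutator (⊤ : Subgroup F) ⊤ F.subtype
    rw [← commutator_def, Group.IsPerfect.commutator_eq_top, ← MonoidHom.range_eq_map,
      Subgroup.range_subtype] at this
    exact this.symm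
  · intro hb
    rw [Subgroup.map_eq_bot_iff_of_injective _ H.subtype_injective] at hb
    haveI := Components.Quasisimple.nontrivial hF
    exact (Subgroup.nontrivial_iff_ne_bot F).1 inferInstance hb
  · intro N hNL hNn hne x hx l hl
    set ι : F →* Perm α := H.subtype.comp F.subtype
    have hι : Function.Injective ι := H.subtype_injective.comp F.subtype_injective
    have hrange : ι.range = F.map H.subtype := by
      rw [MonoidHom.range_comp, Subgroup.range_subtype]
    haveI : (N.comap ι).Normal := ⟨fun n hn g => by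
      rw [Subgroup.mem_comap, map_mul, map_mul, map_inv]
      exact hNn _ (hrange ▸ ⟨g, rfl⟩) _ hn⟩
    rcases Components.Quasisimple.normal_le_center_or_eq_top hF (N := N.comap ι) inferInstance with
      hle | htop
    · obtain ⟨a, rfl⟩ := hrange.symm.le (hNL hx)
      obtain ⟨b, rfl⟩ := hrange.symm.le hl
      exact Commute.map (Subgroup.mem_center_iff.1 (hle hx) b).symm ι
    · refine absurd (le_antisymm hNL fun y hy => ?_) hne
      obtain ⟨b, rfl⟩ := hrange.symm.le hy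
      exact (Subgroup.mem_comap.1 (htop.symm.le (Subgroup.mem_top b)))
  · intro h hh hc
    refine ⟨⟨h, hh⟩, Components.GenFitting.centralizer_le
      (Subgroup.mem_centralizer_iff.2 fun l hl => ?_), rfl⟩
    exact Subtype.ext (hc _ ⟨l, hl, rfl⟩).eq.symm

end Cfsg.Agent.Lib.LAEven56.PermQS
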