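/-
The orbit carrying the quasisimple normal subgroup; blocks and the conclusion from a three-cycle.
-/
import Mathlib
import Cfsg.Agent.Lib.LAEven56.PermQS.Basic
import Cfsg.Agent.Lib.Spectrum.SL25Recognition

set_option autoImplicit false
set_option linter.style.haveILetI false

namespace Cfsg.Agent.Lib.LAEven56.PermQS

open Equiv
open scoped commutatorElement

variable {α : Type*} {H L : Subgroup (Perm α)}

/-- `O` is an `H`-orbit outside which `L` is trivial. -/
structure Orb (H L : Subgroup (Perm α)) (O : Set α) : Prop extends QS H L where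
  inv : ∀ h ∈ H, ∀ a ∈ O, h a ∈ O
  trans : ∀ a ∈ O, ∀ b ∈ O, ∃ h ∈ H, h a = b
  off : ∀ l ∈ L, ∀ a ∉ O, l a = a

variable {O : Set α}

theorem Orb.moves (ho : Orb H L O) {a : α} (ha : a ∈ O) : ∃ l ∈ L, l a ≠ a := by
  by_contra hne
  push Not at hne
  refine ho.ne_bot ((Subgroup.eq_bot_iff_forall _).2 fun l hl => Equiv.ext fun b => ?_)
  by_cases hb : b ∈ O
  · obtain ⟨h, hh, rfl⟩ := ho.trans a ha b hb
    exact ho.toQS.fix_orbit hne hh l hl
  · exact ho.off l hl b hb

/-- A block inside `O`. -/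
def IsBlk (H : Subgroup (Perm α)) (O B : Set α) : Prop :=
  B ⊆ O ∧ ∀ h ∈ H, ∀ a ∈ B, h a ∈ B → ∀ x ∈ B, h x ∈ B

/-- The setwise stabilizer. -/
def stab (B : Set α) : Subgroup (Perm α) where
  carrier := {h | ∀ x, x ∈ B ↔ h x ∈ B}
  one_mem' _ := Iff.rfl
  mul_mem' hx hy a := (hy a).trans (hx _)
  inv_mem' {x} hx a := by simpa using (hx (x⁻¹ a)).symm

/-- The kernel of the action on the translates of `B`. -/
def blockKernel (H : Subgroup (Perm α)) (B : Set α) : Subgroup (Perm α) where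
  carrier := {h | h ∈ H ∧ ∀ g ∈ H, g⁻¹ * h * g ∈ stab B}
  one_mem' := ⟨H.one_mem, fun g _ => by simp [Subgroup.one_mem]⟩
  mul_mem' {x y} hx hy := ⟨H.mul_mem hx.1 hy.1, fun g hg => by
    rw [show g⁻¹ * (x * y) * g = (g⁻¹ * x * g) * (g⁻¹ * y * g) by group]
    exact Subgroup.mul_mem _ (hx.2 g hg) (hy.2 g hg)⟩
  inv_mem' {x} hx := ⟨H.inv_mem hx.1, fun g hg => by
    rw [show g⁻¹ * x⁻¹ * g = (g⁻¹ * x * g)⁻¹ by group]
    exact Subgroup.inv_mem _ (hx.2 g hg)⟩

theorem IsBlk.mem_stab {B : Set α} (hB : IsBlk H O B) {h : Perm α} (hh : h ∈ H) {a : α}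
    (ha : a ∈ B) (hha : h a ∈ B) : h ∈ stab B := by
  intro x
  refine ⟨hB.2 h hh a ha hha x, fun hx => ?_⟩
  have := hB.2 h⁻¹ (H.inv_mem hh) (h a) hha (by simpa using ha) _ hx
  simpa using this

/-- Small elements fix every block. -/
theorem IsBlk.mem_blockKernel [Finite α] {B : Set α} (hB : IsBlk H O B) {t : Perm α} (ht : t ∈ H)
    (hsmall : {a | t a ≠ a}.ncard < 2 * B.ncard) : t ∈ blockKernel H B := by
  refine ⟨ht, fun g hg => ?_⟩
  set u := g⁻¹ * t * g with hu
  have huH : u ∈ H := H.mul_mem (H.mul_mem (H.inv_mem hg) ht) hg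
  by_contra hne
  have hdis : ∀ a ∈ B, u a ∉ B := fun a ha h => hne (hB.mem_stab huH ha h)
  have hsub : g '' (B ∪ u '' B) ⊆ {a | t a ≠ a} := by
    have hug : ∀ a, g (u a) = t (g a) := fun a => by simp [hu]
    rintro _ ⟨a, ha | ⟨b, hb, rfl⟩, rfl⟩ he
    · rw [← hug] at he
      exact hdis a ha (by rwa [g.injective he])
    · rw [← hug] at he
      have h2 : u b = b := u.injective (g.injective he)
      exact hdis b hb (by rwa [h2])
  have h1 := Set.ncard_le_ncard hsub
  rw [Set.ncard_image_of_injective _ g.injective, Set.ncard_union_eq (by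
      rw [Set.disjoint_right]
      rintro _ ⟨b, hb, rfl⟩
      exact hdis b hb), Set.ncard_image_of_injective _ u.injective] at h1
  omega

/-- The two cases for the kernel of a proper block system. -/
theorem Orb.block_cases (ho : Orb H L O) {B : Set α} (hB : IsBlk H O B) (hne : ¬ O ⊆ B) :
    (∀ x ∈ blockKernel H B, ∀ l ∈ L, Commute x l) ∨
      (∀ l ∈ L, ∀ x, x ∈ B ↔ l x ∈ B) ∧ ∃ l ∈ L, ∃ a ∉ B, l a ≠ a := by
  rcases ho.toQS.le_or_commute (blockKernel H B) (fun x hx => hx.1) (fun h hh x hx =>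
      ⟨H.mul_mem (H.mul_mem hh hx.1) (H.inv_mem hh), fun g hg => by
        rw [show g⁻¹ * (h * x * h⁻¹) * g = (h⁻¹ * g)⁻¹ * x * (h⁻¹ * g) by group]
        exact hx.2 _ (H.mul_mem (H.inv_mem hh) hg)⟩) with hle | hc
  · right
    obtain ⟨a, haO, haB⟩ := Set.not_subset.1 hne
    obtain ⟨l, hl, hla⟩ := ho.moves haO
    exact ⟨fun l hl x => by simpa using (hle hl).2 1 H.one_mem x, l, hl, a, haB, hla⟩
  · exact Or.inl hc

/-- No nontrivial block system. -/
def Prim (H : Subgroup (Perm α)) (O : Set α) : Prop :=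
  ∀ B, IsBlk H O B → B.Subsingleton ∨ O ⊆ B

/-- The members of `H` trivial on `O` are trivial. -/
theorem Orb.eq_one (ho : Orb H L O) {h : Perm α} (hh : h ∈ H) (hO : ∀ a ∈ O, h a = a) : h = 1 := by
  have hL : h ∈ L := by
    refine ho.cent h hh fun l hl => Equiv.ext fun a => ?_
    rw [Perm.mul_apply, Perm.mul_apply]
    by_cases ha : a ∈ O
    · rw [hO a ha, hO _ (ho.inv l (ho.le hl) a ha)]
    · have hha : h a ∉ O := fun hm => ha (by simpa using ho.inv h⁻¹ (H.inv_mem hh) _ hm)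
      rw [ho.off l hl a ha, ho.off l hl _ hha]
  refine Equiv.ext fun a => ?_
  by_cases ha : a ∈ O
  exacts [hO a ha, ho.off h hL a ha]

/-- A primitive orbit with a three-cycle carries the alternating group. -/
theorem Orb.iso_alternating [Finite α] [DecidableEq α] (ho : Orb H L O) (hp : Prim H O)
    {a b c : α} (haO : a ∈ O) (hab : a ≠ b) (hac : a ≠ c) (hbc : b ≠ c)
    (hmem : swap a b * swap a c ∈ H) (hout : ∀ x ∉ O, (swap a b * swap a c) x = x) :
    5 ≤ O.ncard ∧ Nonempty (↥L ≃* ↥(alternatingGroup (Fin O.ncard))) := by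
  classical
  letI := Fintype.ofFinite α
  have hinv : ∀ h ∈ H, ∀ x, x ∈ O ↔ h x ∈ O := fun h hh x =>
    ⟨ho.inv h hh x, fun hx => by simpa using ho.inv h⁻¹ (H.inv_mem hh) _ hx⟩
  let φ : H →* Perm O :=
    { toFun := fun h => (h : Perm α).subtypePerm fun x => (hinv h h.2 x).symm
      map_one' := Equiv.ext fun x => Subtype.ext rfl
      map_mul' := fun x y => Equiv.ext fun z => Subtype.ext rfl }
  have hφ : ∀ (h : H) (x : O), (φ h x : α) = (h : Perm α) x := fun h x => rfl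
  have hφinj : Function.Injective φ := (injective_iff_map_eq_one φ).2 fun h hh =>
    Subtype.ext (ho.eq_one h.2 fun x hx => by rw [← hφ h ⟨x, hx⟩, hh]; rfl)
  set G : Subgroup (Perm O) := φ.range
  haveI : MulAction.IsPretransitive G O := ⟨fun x y => by
    obtain ⟨h, hh, hxy⟩ := ho.trans x x.2 y y.2
    exact ⟨⟨φ ⟨h, hh⟩, ⟨h, hh⟩, rfl⟩, Subtype.ext hxy⟩⟩
  have hprim : MulAction.IsPreprimitive G O := by
    refine ⟨fun {B} hB => ?_⟩
    have hblk : IsBlk H O (Subtype.val '' B) := by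
      refine ⟨by rintro _ ⟨x, -, rfl⟩; exact x.2, ?_⟩
      rintro h hh _ ⟨x, hx, rfl⟩ hhx _ ⟨y, hy, rfl⟩
      set g : G := ⟨φ ⟨h, hh⟩, ⟨h, hh⟩, rfl⟩
      obtain ⟨x', hx', hxx'⟩ := hhx
      have hgx : g • x ∈ B := by rw [show g • x = x' from Subtype.ext hxx'.symm]; exact hx'
      exact ⟨g • y, (MulAction.IsBlock.smul_eq_of_mem hB hx hgx) ▸ Set.smul_mem_smul_set hy, rfl⟩
    rcases hp (Subtype.val '' B) hblk with h1 | h1
    · exact Or.inl fun x hx y hy => Subtype.ext (h1 ⟨x, hx, rfl⟩ ⟨y, hy, rfl⟩)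
    · refine Or.inr (Set.eq_univ_of_forall fun x => ?_)
      obtain ⟨y, hy, hxy⟩ := h1 x.2
      rwa [← Subtype.ext hxy]
  have hbO : b ∈ O := by
    by_contra hb
    have := hout b hb
    simp [swap_apply_def, hab.symm, hbc] at this
    exact hab this
  have hcO : c ∈ O := by
    by_contra hc
    have := hout c hc
    simp [swap_apply_def, hac.symm, hbc.symm] at this
    exact hbc this
  have h3 : (Equiv.swap (α := ↥O) ⟨a, haO⟩ ⟨b, hbO⟩ * Equiv.swap (α := ↥O) ⟨a, haO⟩ ⟨c, hcO⟩).IsThreeCycle :=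
    Perm.isThreeCycle_swap_mul_swap_same (fun e => hab (congrArg Subtype.val e))
      (fun e => hac (congrArg Subtype.val e)) (fun e => hbc (congrArg Subtype.val e))
  have h3G : Equiv.swap (α := ↥O) ⟨a, haO⟩ ⟨b, hbO⟩ * Equiv.swap (α := ↥O) ⟨a, haO⟩ ⟨c, hcO⟩ ∈ G := by
    refine ⟨⟨_, hmem⟩, Equiv.ext fun x => Subtype.ext ?_⟩
    rw [hφ]
    simp only [Perm.mul_apply, swap_apply_def]
    split_ifs <;> simp_all [Subtype.ext_iff]
  have hA := Perm.alternatingGroup_le_of_isPreprimitive_of_isThreeCycle_mem hprim h3 h3G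
  set L' : Subgroup (Perm O) := (L.subgroupOf H).map φ
  have hL'perf : ⁅L', L'⁆ = L' := by
    rw [← Subgroup.map_commutator]
    congr 1
    refine Subgroup.map_injective H.subtype_injective ?_
    rw [Subgroup.map_commutator, Subgroup.map_subgroupOf_eq_of_le ho.le, ho.perfect]
  have eL : ↥L ≃* ↥L' := (Subgroup.subgroupOfEquivOfLe ho.le).symm.trans
    ((L.subgroupOf H).equivMapOfInjective φ hφinj)
  have hL'ne : L' ≠ ⊥ := fun hb => ho.ne_bot (by
    rw [Subgroup.eq_bot_iff_forall]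
    intro l hl
    have h1 := (Subgroup.eq_bot_iff_forall _).1 hb (φ ⟨l, ho.le hl⟩) ⟨⟨l, ho.le hl⟩, hl, rfl⟩
    rw [← map_one φ] at h1
    exact congrArg Subtype.val (hφinj h1))
  have hL'A : L' ≤ alternatingGroup O := by
    rw [← hL'perf, Subgroup.commutator_le]
    intro x _ y _
    rw [Perm.mem_alternatingGroup]
    rw [map_commutatorElement, commutatorElement_eq_one_iff_mul_comm]
    exact mul_comm _ _
  have hcard : Nat.card O = O.ncard := Nat.card_coe_set_eq O
  have h5 : 5 ≤ O.ncard := by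
    by_contra h
    haveI : Group.IsSolvable (Perm O) := by
      refine Cfsg.Agent.Lib.Spectrum.isSolvable_of_card_lt_sixty _ rfl ?_
      rw [Nat.card_perm, hcard]
      exact lt_of_le_of_lt (Nat.factorial_le (show O.ncard ≤ 4 by omega)) (by decide)
    have := Group.IsSolvable.commutator_lt_of_ne_bot hL'ne
    rw [hL'perf] at this
    exact this.false
  have hN : (L'.subgroupOf (alternatingGroup O)).Normal := by
    refine ⟨fun x hx g => ?_⟩
    obtain ⟨l, hl, hlx⟩ := Subgroup.mem_map.1 hx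
    obtain ⟨h, hhg⟩ := hA g.2
    refine Subgroup.mem_subgroupOf.2 ⟨h * l * h⁻¹, ho.conj h h.2 l hl, ?_⟩
    rw [map_mul, map_mul, map_inv, hhg, hlx]
    rfl
  haveI := alternatingGroup.isSimpleGroup (α := O) (by
    rw [← hcard] at h5; rwa [Nat.card_eq_fintype_card] at h5 ⊢)
  refine ⟨h5, ?_⟩
  rcases hN.eq_bot_or_eq_top with h1 | h1
  · exact absurd (le_bot_iff.1 fun x hx => by
      have := (Subgroup.eq_bot_iff_forall _).1 h1 ⟨x, hL'A hx⟩ hx
      exact congrArg Subtype.val this) hL'ne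
  · have hEq : L' = alternatingGroup O :=
      le_antisymm hL'A (Subgroup.subgroupOf_eq_top.1 h1)
    exact ⟨eL.trans ((MulEquiv.subgroupCongr hEq).trans
      (Equiv.altCongrHom ((Fintype.equivFin O).trans (finCongr (by
        rw [← Nat.card_eq_fintype_card, hcard])))))⟩

end Cfsg.Agent.Lib.LAEven56.PermQS
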