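/-
Permutation groups with quasisimple generalized Fitting subgroup containing many three-cycles.
-/
import Mathlib
import Cfsg.Agent.Lib.LAEven56.PermQS.Orbit

set_option autoImplicit false
set_option linter.style.haveILetI false

namespace Cfsg.Agent.Lib.LAEven56.PermQS

open Equiv

variable {α : Type*} {H L : Subgroup (Perm α)} {O : Set α}

/-- The orbit of a point. -/
def orb (H : Subgroup (Perm α)) (a : α) : Set α := {x | ∃ h ∈ H, h a = x}

theorem mem_orb_self (a : α) : a ∈ orb H a := ⟨1, H.one_mem, rfl⟩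

theorem orb_inv {a : α} : ∀ h ∈ H, ∀ x ∈ orb H a, h x ∈ orb H a := by
  rintro h hh _ ⟨g, hg, rfl⟩
  exact ⟨h * g, H.mul_mem hh hg, rfl⟩

theorem orb_trans {a : α} : ∀ x ∈ orb H a, ∀ y ∈ orb H a, ∃ h ∈ H, h x = y := by
  rintro _ ⟨g, hg, rfl⟩ _ ⟨g', hg', rfl⟩
  exact ⟨g' * g⁻¹, H.mul_mem hg' (H.inv_mem hg), by simp⟩

theorem IsBlk.translate {B : Set α} (hB : IsBlk H O B) (hinv : ∀ h ∈ H, ∀ x ∈ O, h x ∈ O)
    {g : Perm α} (hg : g ∈ H) : IsBlk H O (g '' B) := by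
  refine ⟨by rintro _ ⟨x, hx, rfl⟩; exact hinv g hg x (hB.1 hx), ?_⟩
  rintro h hh _ ⟨x, hx, rfl⟩ ⟨y, hy, hxy⟩ _ ⟨z, hz, rfl⟩
  have hu : (g⁻¹ * h * g) x = y := by simp [← hxy]
  exact ⟨(g⁻¹ * h * g) z, hB.2 _ (H.mul_mem (H.mul_mem (H.inv_mem hg) hh) hg) x hx (hu ▸ hy) z hz,
    by simp⟩

/-- A nontrivial block system has a block through any prescribed point. -/
theorem exists_block (hinv : ∀ h ∈ H, ∀ x ∈ O, h x ∈ O)
    (htrans : ∀ x ∈ O, ∀ y ∈ O, ∃ h ∈ H, h x = y) (hnp : ¬ Prim H O) {a : α} (ha : a ∈ O) :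
    ∃ B, IsBlk H O B ∧ ¬ B.Subsingleton ∧ ¬ O ⊆ B ∧ a ∈ B := by
  obtain ⟨B, hB, hne⟩ : ∃ B, IsBlk H O B ∧ ¬ (B.Subsingleton ∨ O ⊆ B) := by
    by_contra h
    push Not at h
    exact hnp fun B hB => h B hB
  rw [not_or] at hne
  obtain ⟨x, hx⟩ := Set.Nontrivial.nonempty (Set.not_subsingleton_iff.1 hne.1)
  obtain ⟨g, hg, hgx⟩ := htrans x (hB.1 hx) a ha
  refine ⟨g '' B, hB.translate hinv hg, fun h => hne.1 ?_, fun h => hne.2 ?_, ⟨x, hx, hgx⟩⟩
  · exact fun y hy z hz => g.injective (h ⟨y, hy, rfl⟩ ⟨z, hz, rfl⟩)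
  · intro y hy
    obtain ⟨z, hz, hzy⟩ := h (hinv g hg y hy)
    rwa [← g.injective hzy]

variable [DecidableEq α]

theorem tri_apply {a b d : α} (hab : a ≠ b) (had : a ≠ d) (hbd : b ≠ d) :
    (swap a b * swap a d) a = d ∧ (swap a b * swap a d) d = b ∧ (swap a b * swap a d) b = a ∧
      ∀ x, x ≠ a → x ≠ b → x ≠ d → (swap a b * swap a d) x = x := by
  refine ⟨?_, ?_, ?_, fun x hxa hxb hxd => ?_⟩
  · rw [Perm.mul_apply, swap_apply_left, swap_apply_of_ne_of_ne had.symm hbd.symm]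
  · rw [Perm.mul_apply, swap_apply_right, swap_apply_left]
  · rw [Perm.mul_apply, swap_apply_of_ne_of_ne hab.symm hbd, swap_apply_right]
  · rw [Perm.mul_apply, swap_apply_of_ne_of_ne hxa hxd, swap_apply_of_ne_of_ne hxa hxb]

/-- If `L` centralises a three-cycle it fixes a point of its support. -/
theorem QS.fix_tri (hq : QS H L) {a b d : α} (hab : a ≠ b) (had : a ≠ d) (hbd : b ≠ d)
    (hc : ∀ l ∈ L, Commute (swap a b * swap a d) l) : ∀ l ∈ L, l a = a := by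
  obtain ⟨ca, cd, cb, cx⟩ := tri_apply hab had hbd
  set c := swap a b * swap a d
  have hS : ∀ x, c x ≠ x ↔ x = a ∨ x = b ∨ x = d := by
    intro x
    refine ⟨fun hx => ?_, ?_⟩
    · by_contra h
      push Not at h
      exact hx (cx x h.1 h.2.1 h.2.2)
    · rintro (h | h | h) <;> rw [h]
      · rw [ca]; exact had.symm
      · rw [cb]; exact hab
      · rw [cd]; exact hbd
  have hinvS : ∀ l ∈ L, ∀ x, c x ≠ x → c (l x) ≠ l x := fun l hl x hx he => hx (by
    rw [← Perm.mul_apply, (hc l hl).eq, Perm.mul_apply] at he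
    exact l.injective he)
  refine fun l hl => hq.fix_of_comm_on {x | c x ≠ x} (fun l hl x hx => hinvS l hl x hx) ?_ l hl a
    ((hS a).2 (Or.inl rfl))
  intro x hx y hy z hz
  have hw : ∀ u, c u ≠ u → ∃ i : ℕ, (c ^ i) a = u := by
    intro u hu
    rcases (hS u).1 hu with h | h | h <;> rw [h]
    · exact ⟨0, rfl⟩
    · exact ⟨2, by rw [pow_two, Perm.mul_apply, ca, cd]⟩
    · exact ⟨1, by rw [pow_one, ca]⟩
  have hpow : ∀ l ∈ L, ∀ (i : ℕ) (u : α), l ((c ^ i) u) = (c ^ i) (l u) := fun l hl i u => by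
    rw [← Perm.mul_apply, ← ((hc l hl).pow_left i).eq, Perm.mul_apply]
  obtain ⟨i, rfl⟩ := hw z hz
  obtain ⟨j, hj⟩ := hw _ (hinvS x hx a ((hS a).2 (Or.inl rfl)))
  obtain ⟨k, hk⟩ := hw _ (hinvS y hy a ((hS a).2 (Or.inl rfl)))
  simp only [hpow y hy, hpow x hx, ← hj, ← hk, ← Perm.mul_apply, ← pow_add]
  congr 2
  omega

/-- The orbit of a three-cycle supports `L`. -/
theorem QS.off_tri (hq : QS H L) {a b d : α} (hab : a ≠ b) (had : a ≠ d) (hbd : b ≠ d)
    (hc : swap a b * swap a d ∈ H) :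
    (∀ l ∈ L, ∀ x ∉ orb H a, l x = x) ∧ b ∈ orb H a ∧ d ∈ orb H a := by
  obtain ⟨ca, cd, cb, cx⟩ := tri_apply hab had hbd
  set c := swap a b * swap a d
  have hd : d ∈ orb H a := ⟨c, hc, ca⟩
  have hb : b ∈ orb H a := cd ▸ orb_inv c hc d hd
  refine ⟨?_, hb, hd⟩
  by_contra hne
  push Not at hne
  obtain ⟨l₀, hl₀, x₀, hx₀, hne⟩ := hne
  have hsupp : ∀ x ∉ orb H a, c x = x := fun x hx =>
    cx x (fun e => hx (by rw [e]; exact mem_orb_self a)) (fun e => hx (by rw [e]; exact hb))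
      (fun e => hx (by rw [e]; exact hd))
  have hcom := hq.commute_of_supported (orb H a) (fun l hl => orb_inv l (hq.le hl))
    (fun l hl => hq.conj c hc l hl) hsupp ⟨l₀, hl₀, x₀, hx₀, hne⟩
  have hfix := hq.fix_tri hab had hbd hcom
  have hcL : c ∈ L := hq.cent c hc hcom
  exact had.symm (ca ▸ hfix c hcL)

/-- A group with quasisimple generalized Fitting subgroup and `k` disjoint three-cycles. -/
theorem exists_alternating [Finite α] {k : ℕ} (hk : 1 ≤ k) (f : Fin k → Fin 3 → α)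
    (hinj : Function.Injective fun x : Fin k × Fin 3 => f x.1 x.2) (hq : QS H L)
    (hmem : ∀ i, swap (f i 0) (f i 1) * swap (f i 0) (f i 2) ∈ H) :
    ∃ m, 3 * k ≤ m ∧ m ≤ Nat.card α ∧ Nonempty (↥L ≃* ↥(alternatingGroup (Fin m))) := by
  have hne : ∀ i (x y : Fin 3), x ≠ y → f i x ≠ f i y := fun i x y hxy h =>
    hxy (congrArg Prod.snd (hinj (a₁ := (i, x)) (a₂ := (i, y)) h))
  have h01 : ∀ i, f i 0 ≠ f i 1 := fun i => hne i 0 1 (by decide)
  have h02 : ∀ i, f i 0 ≠ f i 2 := fun i => hne i 0 2 (by decide)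
  have h12 : ∀ i, f i 1 ≠ f i 2 := fun i => hne i 1 2 (by decide)
  have hoff := fun i => hq.off_tri (h01 i) (h02 i) (h12 i) (hmem i)
  set i₀ : Fin k := ⟨0, hk⟩
  set O := orb H (f i₀ 0)
  have hsame : ∀ i, ∀ x, f i x ∈ O := by
    intro i x
    have h0 : f i 0 ∈ O := by
      by_contra hni
      refine hq.ne_bot ((Subgroup.eq_bot_iff_forall _).2 fun l hl => Equiv.ext fun u => ?_)
      by_cases hu : u ∈ O
      · refine (hoff i).1 l hl u fun hu' => hni ?_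
        obtain ⟨h, hh, hhu⟩ := orb_trans u hu' (f i 0) (mem_orb_self _)
        exact hhu ▸ orb_inv h hh u hu
      · exact (hoff i₀).1 l hl u hu
    fin_cases x
    · exact h0
    · obtain ⟨h, hh, hhu⟩ := (hoff i).2.1
      exact hhu ▸ orb_inv h hh _ h0
    · obtain ⟨h, hh, hhu⟩ := (hoff i).2.2
      exact hhu ▸ orb_inv h hh _ h0
  have ho : Orb H L O := ⟨hq, orb_inv, orb_trans, (hoff i₀).1⟩
  obtain ⟨ca, cd, cb, cx⟩ := tri_apply (h01 i₀) (h02 i₀) (h12 i₀)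
  set c := swap (f i₀ 0) (f i₀ 1) * swap (f i₀ 0) (f i₀ 2) with hcdef
  have ha : f i₀ 0 ∈ O := mem_orb_self _
  obtain ⟨l₁, hl₁, hl₁a⟩ := ho.moves ha
  have hnocomm : ¬ ∀ l ∈ L, Commute c l := fun h =>
    hl₁a (hq.fix_tri (h01 i₀) (h02 i₀) (h12 i₀) h l₁ hl₁)
  have hprim : Prim H O := by
    by_contra hnp
    obtain ⟨B, hB, hns, hnO, haB⟩ := exists_block orb_inv orb_trans hnp ha
    have h2 : 2 ≤ B.ncard := (Set.one_lt_ncard (s := B)).2 (Set.not_subsingleton_iff.1 hns)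
    have hsub : {x | c x ≠ x} ⊆ ({f i₀ 0, f i₀ 1, f i₀ 2} : Set α) := fun x hx => by
      by_contra h
      simp only [Set.mem_insert_iff, Set.mem_singleton_iff, not_or] at h
      exact hx (cx x h.1 h.2.1 h.2.2)
    have h3 : {x | c x ≠ x}.ncard ≤ 3 := (Set.ncard_le_ncard hsub).trans
      ((Set.ncard_insert_le _ _).trans (Nat.add_le_add_right
        ((Set.ncard_insert_le _ _).trans (by rw [Set.ncard_singleton])) 1))
    have hcK := hB.mem_blockKernel (hmem i₀) (by rw [← hcdef]; omega)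
    rcases ho.block_cases hB hnO with h | ⟨hLB, hLout⟩
    · exact hnocomm (h c hcK)
    · have hst := hcK.2 1 H.one_mem
      rw [inv_one, one_mul, mul_one] at hst
      have hdB : f i₀ 2 ∈ B := ca ▸ (hst _).1 haB
      have hbB : f i₀ 1 ∈ B := cd ▸ (hst _).1 hdB
      exact hnocomm (hq.commute_of_supported B (fun l hl x hx => (hLB l hl x).1 hx)
        (fun l hl => hq.conj c (hmem i₀) l hl)
        (fun x hx => cx x (fun e => hx (by rw [e]; exact haB)) (fun e => hx (by rw [e]; exact hbB))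
          (fun e => hx (by rw [e]; exact hdB)))
        hLout)
  obtain ⟨-, hiso⟩ := ho.iso_alternating hprim ha (h01 i₀) (h02 i₀) (h12 i₀) (hmem i₀)
    (fun x hx => cx x (fun e => hx (by rw [e]; exact ha)) (fun e => hx (by rw [e]; exact hsame i₀ 1))
      (fun e => hx (by rw [e]; exact hsame i₀ 2)))
  refine ⟨O.ncard, ?_, (Set.ncard_le_card O), hiso⟩
  calc 3 * k = (Set.range fun x : Fin k × Fin 3 => f x.1 x.2).ncard := by
        rw [← Nat.card_coe_set_eq, Nat.card_range_of_injective hinj, Nat.card_prod, Nat.card_fin,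
          Nat.card_fin, mul_comm]
    _ ≤ O.ncard := Set.ncard_le_ncard (by rintro _ ⟨x, rfl⟩; exact hsame _ _)

end Cfsg.Agent.Lib.LAEven56.PermQS
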