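/-
A primitive group with four disjoint transpositions whose pairwise products it contains, and with a
quasisimple generalized Fitting subgroup, contains a three-cycle.
-/
import Mathlib
import Cfsg.Agent.Lib.LAEven56.PermQS.Three

set_option autoImplicit false
set_option linter.style.haveILetI false

namespace Cfsg.Agent.Lib.LAEven56.PermQS

open Equiv

variable {α : Type*} [DecidableEq α] {H L : Subgroup (Perm α)} {O : Set α}

/-- The transpositions congruent to `τ` modulo `H`. -/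
def Rel (H : Subgroup (Perm α)) (O : Set α) (τ : Perm α) (a b : α) : Prop :=
  a ∈ O ∧ b ∈ O ∧ a ≠ b ∧ τ * swap a b ∈ H

/-- The points met by the class of `τ`. -/
def cover (H : Subgroup (Perm α)) (O : Set α) (τ : Perm α) : Set α := {a | ∃ b, Rel H O τ a b}

/-- No three-cycle on `O`. -/
def NoTri (H : Subgroup (Perm α)) (O : Set α) : Prop :=
  ∀ a b c, a ∈ O → b ∈ O → c ∈ O → a ≠ b → a ≠ c → b ≠ c → swap a b * swap a c ∉ H

variable {τ τ' : Perm α}

theorem Rel.symm {a b : α} (h : Rel H O τ a b) : Rel H O τ b a :=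
  ⟨h.2.1, h.1, h.2.2.1.symm, swap_comm a b ▸ h.2.2.2⟩

theorem Rel.prod {a b c d : α} (h : Rel H O τ a b) (h' : Rel H O τ c d) :
    swap a b * swap c d ∈ H := by
  have := H.mul_mem (H.inv_mem h.2.2.2) h'.2.2.2
  rw [mul_inv_rev, swap_inv, mul_assoc, ← mul_assoc τ⁻¹, inv_mul_cancel, one_mul] at this
  exact this

theorem Rel.eq (hT : NoTri H O) {a b c : α} (h : Rel H O τ a b) (h' : Rel H O τ a c) : b = c := by
  by_contra hne
  exact hT a b c h.1 h.2.1 h'.2.1 h.2.2.1 h'.2.2.1 hne (h.prod h')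

theorem Rel.conj (hinv : ∀ h ∈ H, ∀ x ∈ O, h x ∈ O) {a b : α} (h : Rel H O τ a b) {g : Perm α}
    (hg : g ∈ H) : Rel H O (g * τ * g⁻¹) (g a) (g b) := by
  refine ⟨hinv g hg a h.1, hinv g hg b h.2.1, g.injective.ne h.2.2.1, ?_⟩
  rw [swap_apply_apply g a b, show g * τ * g⁻¹ * (g * swap a b * g⁻¹) = g * (τ * swap a b) * g⁻¹ by
    group]
  exact H.mul_mem (H.mul_mem hg h.2.2.2) (H.inv_mem hg)

theorem cover_conj (hinv : ∀ h ∈ H, ∀ x ∈ O, h x ∈ O) {g : Perm α} (hg : g ∈ H) :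
    cover H O (g * τ * g⁻¹) = g '' cover H O τ := by
  ext x
  constructor
  · rintro ⟨y, hy⟩
    refine ⟨g⁻¹ x, ⟨g⁻¹ y, ?_⟩, by simp⟩
    have := hy.conj hinv (H.inv_mem hg)
    rwa [inv_inv, show g⁻¹ * (g * τ * g⁻¹) * g = τ by group] at this
  · rintro ⟨z, ⟨w, hw⟩, rfl⟩
    exact ⟨g w, hw.conj hinv hg⟩

/-- Choosing a pair of the class outside a small closed set. -/
theorem exists_pair_avoid [Finite α] {F : Set α} (hF : ∀ p ∈ F, ∀ q, Rel H O τ p q → q ∈ F)
    (hcard : F.ncard < (cover H O τ).ncard) : ∃ p q, Rel H O τ p q ∧ p ∉ F ∧ q ∉ F := by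
  obtain ⟨p, ⟨q, hpq⟩, hp⟩ := Set.exists_mem_notMem_of_ncard_lt_ncard hcard
  exact ⟨p, q, hpq, hp, fun hq => hp (hF q hq p hpq.symm)⟩

theorem ncard_le_of_list [Finite α] (F : Set α) (l : List α) (h : ∀ x ∈ F, x ∈ l) :
    F.ncard ≤ l.length := by
  classical
  calc F.ncard ≤ (l.toFinset : Set α).ncard :=
        Set.ncard_le_ncard fun x hx => by simpa using h x hx
    _ ≤ l.length := by rw [Set.ncard_coe_finset]; exact l.toFinset_card_le

/-- The closure of a short list under the partner relation. -/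
theorem exists_closed [Finite α] (hT : NoTri H O) (τ : Perm α) (l : List α) :
    ∃ F : Set α, (∀ x ∈ l, x ∈ F) ∧ (∀ p ∈ F, ∀ q, Rel H O τ p q → q ∈ F) ∧
      F.ncard ≤ 2 * l.length := by
  classical
  let ι : α → α := fun x => if h : ∃ q, Rel H O τ x q then h.choose else x
  have hι : ∀ p q, Rel H O τ p q → ι p = q := fun p q h => by
    have hex : ∃ q, Rel H O τ p q := ⟨q, h⟩
    simp only [ι, dif_pos hex]
    exact hex.choose_spec.eq hT h
  refine ⟨{x | x ∈ l ++ l.map ι}, fun x hx => List.mem_append_left _ hx, ?_, ?_⟩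
  · intro p hp q hq
    rcases List.mem_append.1 hp with h | h
    · exact List.mem_append_right _ (List.mem_map.2 ⟨p, h, hι p q hq⟩)
    · obtain ⟨x, hx, hxp⟩ := List.mem_map.1 h
      by_cases hex : ∃ r, Rel H O τ x r
      · obtain ⟨r, hr⟩ := hex
        rw [hι x r hr] at hxp
        subst hxp
        exact List.mem_append_left _ (hq.eq hT hr.symm ▸ hx)
      · have : p = x := by simpa [ι, hex] using hxp.symm
        subst this
        exact absurd ⟨q, hq⟩ hex
  · exact (ncard_le_of_list _ _ fun x hx => hx).trans (by simp; omega)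

theorem commute_swap {a b c d : α} (hac : a ≠ c) (had : a ≠ d) (hbc : b ≠ c) (hbd : b ≠ d) :
    Commute (swap a b) (swap c d) := by
  refine Perm.Disjoint.commute fun x => ?_
  by_cases hx : x = a ∨ x = b
  · right
    rcases hx with rfl | rfl
    · exact swap_apply_of_ne_of_ne hac had
    · exact swap_apply_of_ne_of_ne hbc hbd
  · left
    push Not at hx
    exact swap_apply_of_ne_of_ne hx.1 hx.2

/-- Two meeting transposition pairs with disjoint mates give a three-cycle. -/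
theorem tri_of_mates {a b c p q p' q' : α} (h1 : swap a b * swap p q ∈ H)
    (h2 : swap a c * swap p' q' ∈ H) (hy : ∀ x ∈ ({p, q} : Set α), x ≠ a ∧ x ≠ b ∧ x ≠ c)
    (hy' : ∀ x ∈ ({p', q'} : Set α), x ≠ a ∧ x ≠ b ∧ x ≠ c)
    (hyy : p ≠ p' ∧ p ≠ q' ∧ q ≠ p' ∧ q ≠ q') :
    swap a c * swap a b ∈ H ∨ a = b ∨ a = c ∨ b = c := by
  by_cases hd : a = b ∨ a = c ∨ b = c
  · exact Or.inr hd
  push Not at hd
  obtain ⟨hab, hac, hbc⟩ := hd
  left
  obtain ⟨hpa, hpb, hpc⟩ := hy p (Or.inl rfl)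
  obtain ⟨hqa, hqb, hqc⟩ := hy q (Or.inr rfl)
  obtain ⟨hpa', hpb', hpc'⟩ := hy' p' (Or.inl rfl)
  obtain ⟨hqa', hqb', hqc'⟩ := hy' q' (Or.inr rfl)
  set A := swap a b
  set B := swap a c
  set Y := swap p q
  set Y' := swap p' q'
  have cAY : Commute A Y := commute_swap hpa.symm hqa.symm hpb.symm hqb.symm
  have cAY' : Commute A Y' := commute_swap hpa'.symm hqa'.symm hpb'.symm hqb'.symm
  have cBY : Commute B Y := commute_swap hpa.symm hqa.symm hpc.symm hqc.symm
  have cBY' : Commute B Y' := commute_swap hpa'.symm hqa'.symm hpc'.symm hqc'.symm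
  have cYY : Commute Y Y' := commute_swap hyy.1 hyy.2.1 hyy.2.2.1 hyy.2.2.2
  have e : A * Y * (B * Y') * (A * Y) * (B * Y') = B * A := by
    have r1 : A * Y * (B * Y') = (A * B) * (Y * Y') := cBY.symm.mul_mul_mul_comm A Y'
    rw [r1, mul_assoc _ (A * Y) (B * Y'), r1,
      ((cAY.symm.mul_left cAY'.symm).mul_right (cBY.symm.mul_left cBY'.symm)).mul_mul_mul_comm,
      show Y * Y' * (Y * Y') = 1 by
        rw [cYY.symm.mul_mul_mul_comm]; simp [Y, Y'], mul_one]
    have hex : (A * B) * (A * B) * (A * B) = 1 := by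
      obtain ⟨ca, cd, cb, cx⟩ := tri_apply hab hac hbc
      refine Equiv.ext fun x => ?_
      show (A * B) ((A * B) ((A * B) x)) = x
      by_cases h1 : x = a
      · rw [h1, ca, cd, cb]
      by_cases h2 : x = b
      · rw [h2, cb, ca, cd]
      by_cases h3 : x = c
      · rw [h3, cd, cb, ca]
      rw [cx x h1 h2 h3, cx x h1 h2 h3, cx x h1 h2 h3]
    calc A * B * (A * B) = (A * B) * (A * B) * (A * B) * (A * B)⁻¹ := by group
      _ = B * A := by rw [hex, one_mul, mul_inv_rev]; simp [A, B]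
  rw [← e]
  exact H.mul_mem (H.mul_mem (H.mul_mem h1 h2) h1) h2

/-- The square of the product of a path of two transposition pairs. -/
theorem prod_of_path {a b c e p q : α} (h1 : swap a b * swap c e ∈ H)
    (h2 : swap a c * swap p q ∈ H) (hab : a ≠ b) (hac : a ≠ c) (hbc : b ≠ c) (hea : e ≠ a)
    (heb : e ≠ b) (hec : e ≠ c) (hy : ∀ x ∈ ({p, q} : Set α), x ≠ a ∧ x ≠ b ∧ x ≠ c ∧ x ≠ e) :
    swap a c * swap b e ∈ H := by
  obtain ⟨hpa, hpb, hpc, hpe⟩ := hy p (Or.inl rfl)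
  obtain ⟨hqa, hqb, hqc, hqe⟩ := hy q (Or.inr rfl)
  set X := swap a b * swap c e
  set B := swap a c
  set Y := swap p q
  have cXY : Commute X Y := (commute_swap hpa.symm hqa.symm hpb.symm hqb.symm).mul_left
    (commute_swap hpc.symm hqc.symm hpe.symm hqe.symm)
  have cBY : Commute B Y := commute_swap hpa.symm hqa.symm hpc.symm hqc.symm
  have hYY : Y * Y = 1 := swap_mul_self p q
  have r1 : X * (B * Y) * (X * (B * Y)) = X * B * (X * B) := by
    rw [← mul_assoc X B Y, mul_assoc (X * B) Y, ← mul_assoc Y (X * B) Y,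
      (cXY.mul_left cBY).symm.eq, mul_assoc (X * B) Y Y, hYY, mul_one]
  have hex : X * B * (X * B) = swap a c * swap b e := by
    refine Equiv.ext fun x => ?_
    by_cases h1 : x = a
    · subst h1; simp [X, B, swap_apply_def, hab, hac, hbc, hea, heb, hec, hab.symm, hac.symm, hbc.symm, hea.symm, heb.symm, hec.symm]
    by_cases h2 : x = b
    · subst h2; simp [X, B, swap_apply_def, hab, hac, hbc, hea, heb, hec, hab.symm, hac.symm, hbc.symm, hea.symm, heb.symm, hec.symm]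
    by_cases h3 : x = c
    · subst h3; simp [X, B, swap_apply_def, hab, hac, hbc, hea, heb, hec, hab.symm, hac.symm, hbc.symm, hea.symm, heb.symm, hec.symm]
    by_cases h4 : x = e
    · subst h4; simp [X, B, swap_apply_def, hab, hac, hbc, hea, heb, hec, hab.symm, hac.symm, hbc.symm, hea.symm, heb.symm, hec.symm]
    simp [X, B, swap_apply_of_ne_of_ne h1 h2, swap_apply_of_ne_of_ne h1 h3,
      swap_apply_of_ne_of_ne h3 h4, swap_apply_of_ne_of_ne h2 h4]
  rw [← hex, ← r1]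
  exact H.mul_mem (H.mul_mem h1 h2) (H.mul_mem h1 h2)

variable [Finite α]

/-- Meeting classes close up to squares, and are then small. -/
theorem square (hT : NoTri H O) (h8 : 8 ≤ (cover H O τ).ncard) (h8' : 8 ≤ (cover H O τ').ncard)
    {a b c : α} (hab : Rel H O τ a b) (hac : Rel H O τ' a c) (hbc : b ≠ c) :
    (∃ e, Rel H O τ c e ∧ Rel H O τ' b e) ∧ (cover H O τ).ncard ≤ 8 := by
  classical
  have hmates : ∀ p q p' q', Rel H O τ p q → Rel H O τ' p' q' →
      p ∉ ({a, b, c, p', q'} : Set α) → q ∉ ({a, b, c, p', q'} : Set α) →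
      p' ∉ ({a, b, c} : Set α) → q' ∉ ({a, b, c} : Set α) → False := by
    intro p q p' q' hpq hpq' hp hq hp' hq'
    simp only [Set.mem_insert_iff, Set.mem_singleton_iff, not_or] at hp hq hp' hq'
    rcases tri_of_mates (hab.prod hpq) (hac.prod hpq')
      (by
        rintro x (rfl | rfl)
        · exact ⟨hp.1, hp.2.1, hp.2.2.1⟩
        · exact ⟨hq.1, hq.2.1, hq.2.2.1⟩)
      (by
        rintro x (rfl | rfl)
        · exact ⟨hp'.1, hp'.2.1, hp'.2.2⟩
        · exact ⟨hq'.1, hq'.2.1, hq'.2.2⟩)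
      ⟨hp.2.2.2.1, hp.2.2.2.2, hq.2.2.2.1, hq.2.2.2.2⟩ with h | h | h | h
    · exact hT a c b hab.1 hac.2.1 hab.2.1 hac.2.2.1 hab.2.2.1 hbc.symm h
    · exact hab.2.2.1 h
    · exact hac.2.2.1 h
    · exact hbc h
  obtain ⟨F', hF'm, hF'c, hF'n⟩ := exists_closed hT τ' [a, b]
  have hcF' : c ∈ F' := hF'c a (hF'm a (by simp)) c hac
  obtain ⟨p', q', hpq', hp', hq'⟩ := exists_pair_avoid hF'c (by
    simp at hF'n; omega)
  have hp'n : p' ∉ ({a, b, c} : Set α) := by
    rintro (rfl | rfl | rfl)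
    exacts [hp' (hF'm _ (by simp)), hp' (hF'm _ (by simp)), hp' hcF']
  have hq'n : q' ∉ ({a, b, c} : Set α) := by
    rintro (rfl | rfl | rfl)
    exacts [hq' (hF'm _ (by simp)), hq' (hF'm _ (by simp)), hq' hcF']
  obtain ⟨F, hFm, hFc, hFn⟩ := exists_closed hT τ [a, c, p', q']
  have hbF : b ∈ F := hFc a (hFm a (by simp)) b hab
  have hbig : F.ncard < (cover H O τ).ncard → False := fun h => by
    obtain ⟨p, q, hpq, hp, hq⟩ := exists_pair_avoid hFc h
    refine hmates p q p' q' hpq hpq' ?_ ?_ hp'n hq'n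
    · rintro (rfl | rfl | rfl | rfl | rfl)
      exacts [hp (hFm _ (by simp)), hp hbF, hp (hFm _ (by simp)), hp (hFm _ (by simp)),
        hp (hFm _ (by simp))]
    · rintro (rfl | rfl | rfl | rfl | rfl)
      exacts [hq (hFm _ (by simp)), hq hbF, hq (hFm _ (by simp)), hq (hFm _ (by simp)),
        hq (hFm _ (by simp))]
  have hle : (cover H O τ).ncard ≤ 8 := by
    by_contra h
    exact hbig (lt_of_le_of_lt hFn (by simp; omega))
  refine ⟨?_, hle⟩
  obtain ⟨e, hce⟩ : c ∈ cover H O τ := by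
    by_contra hc
    have hFc2 : ∀ x ∈ F \ {c}, ∀ q, Rel H O τ x q → q ∈ F \ {c} := fun x hx q hq =>
      ⟨hFc x hx.1 q hq, fun h => hc ⟨x, (Set.mem_singleton_iff.1 h) ▸ hq.symm⟩⟩
    by_cases hlt : F.ncard < (cover H O τ).ncard
    · exact hbig hlt
    have hlt2 : (F \ {c}).ncard < (cover H O τ).ncard := by
      have := Set.ncard_sdiff_singleton_add_one (hFm c (by simp))
      simp at hFn
      omega
    obtain ⟨p, q, hpq, hp, hq⟩ := exists_pair_avoid hFc2 hlt2
    have hpc : p ≠ c := fun h => hc ⟨q, h ▸ hpq⟩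
    have hqc : q ≠ c := fun h => hc ⟨p, h ▸ hpq.symm⟩
    have hpF : p ∉ F := fun h => hp ⟨h, hpc⟩
    have hqF : q ∉ F := fun h => hq ⟨h, hqc⟩
    refine hmates p q p' q' hpq hpq' ?_ ?_ hp'n hq'n
    · rintro (rfl | rfl | rfl | rfl | rfl)
      exacts [hpF (hFm _ (by simp)), hpF hbF, hpF (hFm _ (by simp)), hpF (hFm _ (by simp)),
        hpF (hFm _ (by simp))]
    · rintro (rfl | rfl | rfl | rfl | rfl)
      exacts [hqF (hFm _ (by simp)), hqF hbF, hqF (hFm _ (by simp)), hqF (hFm _ (by simp)),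
        hqF (hFm _ (by simp))]
  have hea : e ≠ a := fun h => hbc (hab.eq hT (h ▸ hce.symm))
  have heb : e ≠ b := fun h => hac.2.2.1 (hab.symm.eq hT (h ▸ hce.symm))
  obtain ⟨E, hEm, hEc, hEn⟩ := exists_closed hT τ' [a, b, e]
  have hcE : c ∈ E := hEc a (hEm a (by simp)) c hac
  obtain ⟨p, q, hpq, hp, hq⟩ := exists_pair_avoid hEc (by simp at hEn; omega)
  have hprod := prod_of_path (hab.prod hce) (hac.prod hpq) hab.2.2.1 hac.2.2.1 hbc hea heb
    hce.2.2.1.symm (by
      rintro x (rfl | rfl)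
      · exact ⟨fun h => hp (h ▸ hEm a (by simp)), fun h => hp (h ▸ hEm b (by simp)),
          fun h => hp (h ▸ hcE), fun h => hp (h ▸ hEm e (by simp))⟩
      · exact ⟨fun h => hq (h ▸ hEm a (by simp)), fun h => hq (h ▸ hEm b (by simp)),
          fun h => hq (h ▸ hcE), fun h => hq (h ▸ hEm e (by simp))⟩)
  refine ⟨e, hce, hab.2.1, hce.2.1, heb.symm, ?_⟩
  have := H.mul_mem hac.2.2.2 hprod
  rwa [mul_assoc, ← mul_assoc (swap a c), swap_mul_self, one_mul] at this

/-- A primitive orbit with four transpositions congruent modulo `H` contains a three-cycle. -/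
theorem Orb.not_noTri (ho : Orb H L O) (hp : Prim H O) (u w : Fin 4 → α)
    (hinj : Function.Injective (Sum.elim u w)) (hO : ∀ i, u i ∈ O ∧ w i ∈ O)
    (hR : ∀ i, swap (u 0) (w 0) * swap (u i) (w i) ∈ H) : ¬ NoTri H O := by
  classical
  intro hT
  set τ := swap (u 0) (w 0) with hτ
  have hne : ∀ i, u i ≠ w i := fun i h => Sum.inl_ne_inr (hinj (a₁ := Sum.inl i) (a₂ := Sum.inr i) h)
  have hrel : ∀ i, Rel H O τ (u i) (w i) := fun i => ⟨(hO i).1, (hO i).2, hne i, hR i⟩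
  set F : Set α := Set.range (Sum.elim u w) with hFdef
  have hFc : F.ncard = 8 := by
    rw [hFdef, ← Nat.card_coe_set_eq, Nat.card_range_of_injective hinj, Nat.card_sum, Nat.card_fin]
  have hFS : F ⊆ cover H O τ := by
    rintro _ ⟨i | i, rfl⟩
    exacts [⟨_, hrel i⟩, ⟨_, (hrel i).symm⟩]
  have h8 : ∀ g ∈ H, 8 ≤ (cover H O (g * τ * g⁻¹)).ncard := fun g hg => by
    rw [cover_conj ho.inv hg, Set.ncard_image_of_injective _ g.injective, ← hFc]
    exact Set.ncard_le_ncard hFS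
  have h8' : 8 ≤ (cover H O τ).ncard := hFc ▸ Set.ncard_le_ncard hFS
  -- some conjugate class disagrees
  obtain ⟨g, hg, a, b, c, hab, hac, hbc⟩ : ∃ g ∈ H, ∃ a b c, Rel H O τ a b ∧
      Rel H O (g * τ * g⁻¹) a c ∧ b ≠ c := by
    by_contra hno
    push Not at hno
    have hB : IsBlk H O {u 0, w 0} := by
      refine ⟨by rintro _ (rfl | rfl); exacts [(hO 0).1, (hO 0).2], ?_⟩
      intro h hh x hx hhx
      have key : ∀ x y, Rel H O τ x y → (x = u 0 ∨ x = w 0) → h x ∈ ({u 0, w 0} : Set α) →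
          h y ∈ ({u 0, w 0} : Set α) := by
        intro x y hxy hx' hhx
        have h1 := hxy.conj ho.inv hh
        rcases hhx with h2 | h2
        · rw [h2] at h1
          exact Or.inr (hno h hh _ _ _ (hrel 0) h1).symm
        · rw [Set.mem_singleton_iff.1 h2] at h1
          exact Or.inl (hno h hh _ _ _ (hrel 0).symm h1).symm
      intro z hz
      rcases hx with rfl | hx
      · rcases hz with rfl | hz
        · exact hhx
        · rw [Set.mem_singleton_iff.1 hz]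
          exact key _ _ (hrel 0) (Or.inl rfl) hhx
      · rw [Set.mem_singleton_iff.1 hx] at hhx
        rcases hz with rfl | hz
        · exact key _ _ (hrel 0).symm (Or.inr rfl) hhx
        · rw [Set.mem_singleton_iff.1 hz]; exact hhx
    rcases hp _ hB with h | h
    · exact hne 0 (h (Or.inl rfl) (Or.inr rfl))
    · have h2 : F ⊆ ({u 0, w 0} : Set α) := by
        rintro _ ⟨i | i, rfl⟩
        exacts [h (hO i).1, h (hO i).2]
      have := (Set.ncard_le_ncard h2).trans (Set.ncard_insert_le _ _)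
      rw [Set.ncard_singleton, hFc] at this
      omega
  have hS : F = cover H O τ :=
    Set.eq_of_subset_of_ncard_le hFS (by
      rw [hFc]; exact (square hT h8' (h8 g hg) hab hac hbc).2)
  -- the product of the class
  set t := (swap (u 0) (w 0) * swap (u 1) (w 1)) * (swap (u 2) (w 2) * swap (u 3) (w 3)) with ht
  have htH : t ∈ H := H.mul_mem ((hrel 0).prod (hrel 1)) ((hrel 2).prod (hrel 3))
  have hd : ∀ i j, (u i = u j ↔ i = j) ∧ (w i = w j ↔ i = j) ∧ u i ≠ w j ∧ w j ≠ u i := by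
    intro i j
    refine ⟨⟨fun h => Sum.inl_injective (hinj (a₁ := Sum.inl i) (a₂ := Sum.inl j) h), fun h => h ▸ rfl⟩,
      ⟨fun h => Sum.inr_injective (hinj (a₁ := Sum.inr i) (a₂ := Sum.inr j) h), fun h => h ▸ rfl⟩,
      fun h => Sum.inl_ne_inr (hinj (a₁ := Sum.inl i) (a₂ := Sum.inr j) h),
      fun h => Sum.inl_ne_inr (hinj (a₁ := Sum.inl i) (a₂ := Sum.inr j) h.symm)⟩
  have htu : ∀ i, t (u i) = w i ∧ t (w i) = u i := by
    intro i
    fin_cases i <;>
      simp [ht, swap_apply_def, (hd _ _).1, (hd _ _).2.1, (hd _ _).2.2.1, (hd _ _).2.2.2]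
  have htrel : ∀ x y, Rel H O τ x y → t x = y := by
    intro x y hxy
    obtain ⟨i | i, rfl⟩ : x ∈ F := hS ▸ ⟨y, hxy⟩
    · exact (htu i).1.trans ((hrel i).eq hT hxy)
    · exact (htu i).2.trans ((hrel i).symm.eq hT hxy)
  have htfix : ∀ x, x ∉ cover H O τ → t x = x := by
    intro x hx
    rw [← hS] at hx
    have hxu : ∀ i, x ≠ u i ∧ x ≠ w i := fun i =>
      ⟨fun h => hx ⟨Sum.inl i, h.symm⟩, fun h => hx ⟨Sum.inr i, h.symm⟩⟩
    simp [ht, swap_apply_of_ne_of_ne (hxu _).1 (hxu _).2]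
  -- conjugates of the product commute
  have hcomm : ∀ h ∈ H, Commute t (h * t * h⁻¹) := by
    intro h hh
    set t' := h * t * h⁻¹ with ht'
    have ht'rel : ∀ x y, Rel H O (h * τ * h⁻¹) x y → t' x = y := by
      intro x y hxy
      have := hxy.conj ho.inv (H.inv_mem hh)
      rw [inv_inv, show h⁻¹ * (h * τ * h⁻¹) * h = τ by group] at this
      rw [ht', Perm.mul_apply, Perm.mul_apply, htrel _ _ this]
      simp
    have ht'fix : ∀ x, x ∉ cover H O (h * τ * h⁻¹) → t' x = x := by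
      intro x hx
      rw [cover_conj ho.inv hh] at hx
      rw [ht', Perm.mul_apply, Perm.mul_apply,
        htfix (h⁻¹ x) (fun hm => hx ⟨h⁻¹ x, hm, by simp⟩)]
      simp
    refine Equiv.ext fun x => ?_
    show t (t' x) = t' (t x)
    by_cases hx : x ∈ cover H O τ <;> by_cases hx' : x ∈ cover H O (h * τ * h⁻¹)
    · obtain ⟨y, hy⟩ := hx
      obtain ⟨y', hy'⟩ := hx'
      rw [htrel _ _ hy, ht'rel _ _ hy']
      by_cases hyy : y = y'
      · subst hyy
        rw [htrel _ _ hy.symm, ht'rel _ _ hy'.symm]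
      · obtain ⟨⟨e, he, he'⟩, -⟩ := square hT h8' (h8 h hh) hy hy' hyy
        rw [htrel _ _ he, ht'rel _ _ he']
    · obtain ⟨y, hy⟩ := hx
      rw [htrel _ _ hy, ht'fix _ hx', htrel _ _ hy]
      refine (ht'fix y fun ⟨z, hz⟩ => ?_).symm
      have hxz : x ≠ z := fun he => hx' ⟨y, he ▸ hz.symm⟩
      obtain ⟨⟨e, -, he⟩, -⟩ := square hT h8' (h8 h hh) hy.symm hz hxz
      exact hx' ⟨e, he⟩
    · obtain ⟨y, hy⟩ := hx'
      rw [htfix _ hx, ht'rel _ _ hy]
      refine htfix y fun ⟨z, hz⟩ => ?_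
      have hzx : z ≠ x := fun he => hx ⟨y, he ▸ hz.symm⟩
      obtain ⟨⟨e, he, -⟩, -⟩ := square hT h8' (h8 h hh) hz hy.symm hzx
      exact hx ⟨e, he⟩
    · rw [htfix _ hx, ht'fix _ hx', htfix _ hx]
  -- the normal abelian subgroup
  set A := Subgroup.closure {x | ∃ h ∈ H, h * t * h⁻¹ = x}
  have hAH : A ≤ H := (Subgroup.closure_le _).2 (by
    rintro _ ⟨h, hh, rfl⟩; exact H.mul_mem (H.mul_mem hh htH) (H.inv_mem hh))
  have hAc : ∀ x ∈ A, ∀ y ∈ A, Commute x y := by
    have h1 : ∀ x ∈ {x | ∃ h ∈ H, h * t * h⁻¹ = x}, ∀ y ∈ {x | ∃ h ∈ H, h * t * h⁻¹ = x},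
        Commute x y := by
      rintro _ ⟨h, hh, rfl⟩ _ ⟨k, hk, rfl⟩
      have := (hcomm (h⁻¹ * k) (H.mul_mem (H.inv_mem hh) hk)).map (MulAut.conj h).toMonoidHom
      simpa [mul_assoc] using this
    have h2 : A ≤ Subgroup.centralizer {x | ∃ h ∈ H, h * t * h⁻¹ = x} :=
      (Subgroup.closure_le _).2 fun x hx => Subgroup.mem_centralizer_iff.2 fun y hy => h1 y hy x hx
    have h3 : A ≤ Subgroup.centralizer (A : Set (Perm α)) :=
      (Subgroup.closure_le _).2 fun x hx => Subgroup.mem_centralizer_iff.2 fun y hy =>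
        (Subgroup.mem_centralizer_iff.1 (h2 hy) x hx).symm
    exact fun x hx y hy => Subgroup.mem_centralizer_iff.1 (h3 hy) x hx
  have hAn : ∀ h ∈ H, ∀ x ∈ A, h * x * h⁻¹ ∈ A := by
    intro h hh x hx
    induction hx using Subgroup.closure_induction with
    | mem y hy =>
      obtain ⟨k, hk, rfl⟩ := hy
      exact Subgroup.subset_closure ⟨h * k, H.mul_mem hh hk, by group⟩
    | one => rw [mul_one, mul_inv_cancel]; exact A.one_mem
    | mul y z _ _ iy iz =>
      rw [show h * (y * z) * h⁻¹ = (h * y * h⁻¹) * (h * z * h⁻¹) by group]; exact A.mul_mem iy iz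
    | inv y _ iy => rw [show h * y⁻¹ * h⁻¹ = (h * y * h⁻¹)⁻¹ by group]; exact A.inv_mem iy
  have hAL := ho.toQS.commute_of_comm A hAH hAc hAn
  have htA : t ∈ A := Subgroup.subset_closure ⟨1, H.one_mem, by group⟩
  have hB : IsBlk H O {x | ∃ v ∈ A, v (u 0) = x} := by
    refine ⟨by rintro _ ⟨v, hv, rfl⟩; exact ho.inv v (hAH hv) _ (hO 0).1, ?_⟩
    rintro h hh _ ⟨v, hv, rfl⟩ ⟨v', hv', hve⟩ _ ⟨z, hz, rfl⟩
    refine ⟨h * (z * v⁻¹) * h⁻¹ * v', A.mul_mem (hAn h hh _ (A.mul_mem hz (A.inv_mem hv))) hv', ?_⟩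
    rw [Perm.mul_apply, hve]
    simp
  rcases hp _ hB with h | h
  · exact hne 0 (h ⟨1, A.one_mem, rfl⟩ ⟨t, htA, (htu 0).1⟩)
  · obtain ⟨l₁, hl₁, hl₁a⟩ := ho.moves (hO 0).1
    refine hl₁a (ho.toQS.fix_of_comm_on O (fun l hl => ho.inv l (ho.le hl)) ?_ l₁ hl₁ _ (hO 0).1)
    intro l hl l' hl' x hx
    obtain ⟨z, hz, rfl⟩ := h hx
    obtain ⟨v, hv, hve⟩ := h (ho.inv l (ho.le hl) _ (hO 0).1)
    obtain ⟨v', hv', hve'⟩ := h (ho.inv l' (ho.le hl') _ (hO 0).1)
    have hpush : ∀ m ∈ L, ∀ y ∈ A, ∀ x : α, m (y x) = y (m x) := fun m hm y hy x =>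
      Equiv.ext_iff.1 (hAL y hy m hm).eq.symm x
    rw [hpush l' hl' z hz, ← hve', hpush l hl z hz, hpush l hl v' hv', ← hve, hpush l hl z hz, ← hve,
      hpush l' hl' z hz, hpush l' hl' v hv, ← hve']
    exact congrArg z (Equiv.ext_iff.1 (hAc v' hv' v hv).eq (u 0))

end Cfsg.Agent.Lib.LAEven56.PermQS
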