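/-
Permutation groups with quasisimple generalized Fitting subgroup containing many double transpositions.
-/
import Mathlib
import Cfsg.Agent.Lib.LAEven56.PermQS.Config

set_option autoImplicit false
set_option linter.style.haveILetI false

namespace Cfsg.Agent.Lib.LAEven56.PermQS

open Equiv

variable {α : Type*} [DecidableEq α] {H L : Subgroup (Perm α)} {O : Set α}

theorem dbl_apply {a b c d : α} (hab : a ≠ b) (hac : a ≠ c) (had : a ≠ d) (hbc : b ≠ c)
    (hbd : b ≠ d) (hcd : c ≠ d) :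
    (swap a b * swap c d) a = b ∧ (swap a b * swap c d) b = a ∧ (swap a b * swap c d) c = d ∧
      (swap a b * swap c d) d = c ∧
      ∀ x, x ≠ a → x ≠ b → x ≠ c → x ≠ d → (swap a b * swap c d) x = x := by
  refine ⟨?_, ?_, ?_, ?_, fun x h1 h2 h3 h4 => ?_⟩
  · simp [swap_apply_def, hac, had]
  · simp [swap_apply_def, hbc, hbd, hab.symm]
  · simp [swap_apply_def, had.symm, hbd.symm]
  · simp [swap_apply_def, hac.symm, hbc.symm, hcd]
  · simp [swap_apply_of_ne_of_ne h1 h2, swap_apply_of_ne_of_ne h3 h4]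

theorem dbl_supp {a b c d : α} (hab : a ≠ b) (hac : a ≠ c) (had : a ≠ d) (hbc : b ≠ c)
    (hbd : b ≠ d) (hcd : c ≠ d) (x : α) :
    (swap a b * swap c d) x ≠ x ↔ x = a ∨ x = b ∨ x = c ∨ x = d := by
  obtain ⟨h1, h2, h3, h4, h5⟩ := dbl_apply hab hac had hbc hbd hcd
  refine ⟨fun hx => ?_, ?_⟩
  · by_contra h
    push Not at h
    exact hx (h5 x h.1 h.2.1 h.2.2.1 h.2.2.2)
  · rintro (h | h | h | h) <;> rw [h]
    · rw [h1]; exact hab.symm
    · rw [h2]; exact hab
    · rw [h3]; exact hcd.symm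
    · rw [h4]; exact hcd

/-- A quad: four points carrying a Klein four group in `H`. -/
structure Quad (H : Subgroup (Perm α)) (q : Fin 4 → α) : Prop where
  inj : Function.Injective q
  v_mem : swap (q 0) (q 1) * swap (q 2) (q 3) ∈ H
  s_mem : swap (q 0) (q 2) * swap (q 1) (q 3) ∈ H

variable {q : Fin 4 → α}

theorem Quad.ne (hq : Quad H q) {i j : Fin 4} (h : i ≠ j) : q i ≠ q j := fun e => h (hq.inj e)

theorem Quad.vs (hq : Quad H q) :
    (∀ x, (swap (q 0) (q 1) * swap (q 2) (q 3)) x ≠ x ↔ x = q 0 ∨ x = q 1 ∨ x = q 2 ∨ x = q 3) ∧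
    (∀ x, (swap (q 0) (q 2) * swap (q 1) (q 3)) x ≠ x ↔ x = q 0 ∨ x = q 2 ∨ x = q 1 ∨ x = q 3) :=
  ⟨dbl_supp (hq.ne (by decide)) (hq.ne (by decide)) (hq.ne (by decide)) (hq.ne (by decide))
    (hq.ne (by decide)) (hq.ne (by decide)),
  dbl_supp (hq.ne (by decide)) (hq.ne (by decide)) (hq.ne (by decide)) (hq.ne (by decide))
    (hq.ne (by decide)) (hq.ne (by decide))⟩

/-- `L` cannot centralise the four group of a quad without fixing its points. -/
theorem Quad.fix (hq : Quad H q) (hQ : QS H L)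
    (hv : ∀ l ∈ L, Commute (swap (q 0) (q 1) * swap (q 2) (q 3)) l)
    (hs : ∀ l ∈ L, Commute (swap (q 0) (q 2) * swap (q 1) (q 3)) l) : ∀ l ∈ L, l (q 0) = q 0 := by
  obtain ⟨v0, v1, v2, v3, v5⟩ := dbl_apply (hq.ne (i := 0) (j := 1) (by decide))
    (hq.ne (i := 0) (j := 2) (by decide)) (hq.ne (i := 0) (j := 3) (by decide))
    (hq.ne (i := 1) (j := 2) (by decide)) (hq.ne (i := 1) (j := 3) (by decide))
    (hq.ne (i := 2) (j := 3) (by decide))
  obtain ⟨s0, s2, s1, s3, s5⟩ := dbl_apply (hq.ne (i := 0) (j := 2) (by decide))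
    (hq.ne (i := 0) (j := 1) (by decide)) (hq.ne (i := 0) (j := 3) (by decide))
    (hq.ne (i := 2) (j := 1) (by decide)) (hq.ne (i := 2) (j := 3) (by decide))
    (hq.ne (i := 1) (j := 3) (by decide))
  set v := swap (q 0) (q 1) * swap (q 2) (q 3) with hvdef
  set s := swap (q 0) (q 2) * swap (q 1) (q 3) with hsdef
  have hvs : Commute v s := by
    refine Equiv.ext fun x => ?_
    show v (s x) = s (v x)
    by_cases h0 : x = q 0
    · rw [h0, s0, v2, v0, s1]
    by_cases h1 : x = q 1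
    · rw [h1, s1, v3, v1, s0]
    by_cases h2 : x = q 2
    · rw [h2, s2, v0, v2, s3]
    by_cases h3 : x = q 3
    · rw [h3, s3, v1, v3, s2]
    rw [s5 x h0 h2 h1 h3, v5 x h0 h1 h2 h3, s5 x h0 h2 h1 h3]
  refine fun l hl => hQ.fix_quad hv hs hvs (a₀ := q 0) ?_ l hl (q 0) (((hq.vs).1 _).2 (Or.inl rfl))
  intro x
  rw [(hq.vs).1 x, v0, s0, v2]

/-- The orbit of a quad supports `L`. -/
theorem Quad.off (hq : Quad H q) (hQ : QS H L) :
    (∀ l ∈ L, ∀ x ∉ orb H (q 0), l x = x) ∧ ∀ i, q i ∈ orb H (q 0) := by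
  have hv0 : q 1 ∈ orb H (q 0) := ⟨_, hq.v_mem, by
    simp [swap_apply_def, hq.ne (i := 0) (j := 2) (by decide), hq.ne (i := 0) (j := 3) (by decide)]⟩
  have hs0 : q 2 ∈ orb H (q 0) := ⟨_, hq.s_mem, by
    simp [swap_apply_def, hq.ne (i := 0) (j := 1) (by decide), hq.ne (i := 0) (j := 3) (by decide)]⟩
  have hv3 : q 3 ∈ orb H (q 0) := by
    have := orb_inv _ hq.v_mem _ hs0
    rwa [(dbl_apply (hq.ne (i := 0) (j := 1) (by decide)) (hq.ne (i := 0) (j := 2) (by decide))
      (hq.ne (i := 0) (j := 3) (by decide)) (hq.ne (i := 1) (j := 2) (by decide))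
      (hq.ne (i := 1) (j := 3) (by decide)) (hq.ne (i := 2) (j := 3) (by decide))).2.2.1] at this
  have hall : ∀ i, q i ∈ orb H (q 0) := by
    intro i; fin_cases i
    exacts [mem_orb_self _, hv0, hs0, hv3]
  refine ⟨?_, hall⟩
  by_contra hne
  push Not at hne
  obtain ⟨l₀, hl₀, x₀, hx₀, hne⟩ := hne
  have hcom : ∀ t ∈ H, (∀ x, t x ≠ x → x ∈ orb H (q 0)) → ∀ l ∈ L, Commute t l := fun t ht hsupp =>
    hQ.commute_of_supported (orb H (q 0)) (fun l hl => orb_inv l (hQ.le hl))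
      (fun l hl => hQ.conj t ht l hl) (fun x hx => by_contra fun h => hx (hsupp x h))
      ⟨l₀, hl₀, x₀, hx₀, hne⟩
  have hv := hcom _ hq.v_mem fun x hx => by
    rcases (hq.vs.1 x).1 hx with h | h | h | h <;> rw [h] <;> exact hall _
  have hs := hcom _ hq.s_mem fun x hx => by
    rcases (hq.vs.2 x).1 hx with h | h | h | h <;> rw [h] <;> exact hall _
  exact (hq.vs.1 (q 0)).2 (Or.inl rfl) (hq.fix hQ hv hs _ (hQ.cent _ hq.v_mem hv))

/-- Members of a two-point block are moved together. -/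
theorem IsBlk.pair_moved {B : Set α} (hB : IsBlk H O B) {a x : α} (ha : a ∈ B) (hx : x ∈ B)
    (hax : x ≠ a) (htwo : ∀ y ∈ B, y = a ∨ y = x) {t : Perm α} (ht : t ∈ H) (hta : t a ≠ a) :
    t x ≠ x := by
  intro he
  have h := hB.2 t ht x hx (by rwa [he]) a ha
  rcases htwo _ h with h' | h'
  · exact hta h'
  · exact hax (t.injective (h'.trans he.symm)).symm

variable [Finite α]

/-- With two quads and a cross product, the orbit is primitive. -/
theorem Orb.prim_of_quads (ho : Orb H L O) {q q' : Fin 4 → α} (hq : Quad H q) (hq' : Quad H q')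
    (hd : ∀ i j, q i ≠ q' j) (hO : ∀ i, q i ∈ O ∧ q' i ∈ O)
    (hx : swap (q 0) (q 1) * swap (q' 0) (q' 1) ∈ H) : Prim H O := by
  classical
  by_contra hnp
  obtain ⟨B, hB, hns, hnO, haB⟩ := exists_block ho.inv ho.trans hnp (hO 0).1
  have h2 : 2 ≤ B.ncard := (Set.one_lt_ncard (s := B)).2 (Set.not_subsingleton_iff.1 hns)
  obtain ⟨l₁, hl₁, hl₁a⟩ := ho.moves (hO 0).1
  have hne := @Quad.ne α _ H q hq
  have hne' := @Quad.ne α _ H q' hq'
  by_cases h3 : 3 ≤ B.ncard
  · have hsmall : ∀ (t : Perm α) (a b c d : α), (∀ x, t x ≠ x → x = a ∨ x = b ∨ x = c ∨ x = d) →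
        {x | t x ≠ x}.ncard < 2 * B.ncard := by
      intro t a b c d h
      have h4 : {x | t x ≠ x}.ncard ≤ 4 :=
        ncard_le_of_list {x | t x ≠ x} [a, b, c, d] (fun x hx => by simpa using h x hx)
      omega
    have hv := hB.mem_blockKernel hq.v_mem (hsmall _ _ _ _ _ fun x => (hq.vs.1 x).1)
    have hs := hB.mem_blockKernel hq.s_mem (hsmall _ _ _ _ _ fun x => (hq.vs.2 x).1)
    rcases ho.block_cases hB hnO with h | ⟨hLB, hLout⟩
    · exact hl₁a (hq.fix ho.toQS (h _ hv) (h _ hs) l₁ hl₁)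
    · have hstv := hv.2 1 H.one_mem
      have hsts := hs.2 1 H.one_mem
      rw [inv_one, one_mul, mul_one] at hstv hsts
      obtain ⟨v0, -, v2, -, -⟩ := dbl_apply (hne (i := 0) (j := 1) (by decide))
        (hne (i := 0) (j := 2) (by decide)) (hne (i := 0) (j := 3) (by decide))
        (hne (i := 1) (j := 2) (by decide)) (hne (i := 1) (j := 3) (by decide))
        (hne (i := 2) (j := 3) (by decide))
      obtain ⟨s0, -, -, -, -⟩ := dbl_apply (hne (i := 0) (j := 2) (by decide))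
        (hne (i := 0) (j := 1) (by decide)) (hne (i := 0) (j := 3) (by decide))
        (hne (i := 2) (j := 1) (by decide)) (hne (i := 2) (j := 3) (by decide))
        (hne (i := 1) (j := 3) (by decide))
      have b1 : q 1 ∈ B := v0 ▸ (hstv _).1 haB
      have b2 : q 2 ∈ B := s0 ▸ (hsts _).1 haB
      have b3 : q 3 ∈ B := v2 ▸ (hstv _).1 b2
      have hcom : ∀ t ∈ H, (∀ x, t x ≠ x → x ∈ B) → ∀ l ∈ L, Commute t l := fun t ht hsupp =>
        ho.toQS.commute_of_supported B (fun l hl x hx => (hLB l hl x).1 hx)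
          (fun l hl => ho.conj t ht l hl) (fun x hx => by_contra fun h => hx (hsupp x h)) hLout
      refine hl₁a (hq.fix ho.toQS ?_ ?_ l₁ hl₁)
      · exact hcom _ hq.v_mem fun x hx => by
          rcases (hq.vs.1 x).1 hx with h | h | h | h <;> rw [h] <;> assumption
      · exact hcom _ hq.s_mem fun x hx => by
          rcases (hq.vs.2 x).1 hx with h | h | h | h <;> rw [h] <;> assumption
  -- blocks of size two
  have hB2 : B.ncard = 2 := by omega
  have hpair : ∀ g ∈ H, ∀ a b c d e f : α, a ∈ g '' B → a ≠ b → a ≠ c → a ≠ d → b ≠ c → b ≠ d →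
      c ≠ d → a ≠ e → a ≠ f → b ≠ e → b ≠ f → e ≠ f → c ≠ e → c ≠ f → d ≠ e → d ≠ f →
      swap a b * swap c d ∈ H → swap a b * swap e f ∈ H → b ∈ g '' B := by
    intro g hg a b c d e f ha hab hac had hbc hbd hcd hae haf hbe hbf hef hce hcf hde hdf h1 h2
    have hB' := hB.translate ho.inv hg
    obtain ⟨y, z, hyz, hyzB⟩ := Set.ncard_eq_two.1
      ((Set.ncard_image_of_injective B g.injective).trans hB2)
    obtain ⟨x, hxB, hxa, htwo⟩ : ∃ x ∈ g '' B, x ≠ a ∧ ∀ u ∈ g '' B, u = a ∨ u = x := by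
      rw [hyzB] at ha ⊢
      rcases ha with h | h
      · exact ⟨z, Or.inr rfl, by rw [h]; exact hyz.symm, fun u hu => by
          rcases hu with hu | hu
          · exact Or.inl (hu.trans h.symm)
          · exact Or.inr hu⟩
      · rw [Set.mem_singleton_iff] at h
        exact ⟨y, Or.inl rfl, by rw [h]; exact hyz, fun u hu => by
          rcases hu with hu | hu
          · exact Or.inr hu
          · exact Or.inl ((Set.mem_singleton_iff.1 hu).trans h.symm)⟩
    have m1 := (dbl_supp hab hac had hbc hbd hcd x).1 (hB'.pair_moved ha hxB hxa htwo h1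
      ((dbl_supp hab hac had hbc hbd hcd a).2 (Or.inl rfl)))
    have m2 := (dbl_supp hab hae haf hbe hbf hef x).1 (hB'.pair_moved ha hxB hxa htwo h2
      ((dbl_supp hab hae haf hbe hbf hef a).2 (Or.inl rfl)))
    rcases m1 with h | h | h | h
    · exact absurd h hxa
    · exact h ▸ hxB
    all_goals
      rcases m2 with h' | h' | h' | h'
      · exact absurd h' hxa
      · exact h' ▸ hxB
      all_goals simp_all
  -- the three pairs
  have hv := hq.v_mem
  have hv' := hq'.v_mem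
  have hw : swap (q 2) (q 3) * swap (q' 0) (q' 1) ∈ H := by
    have := H.mul_mem hv hx
    rwa [show swap (q 0) (q 1) * swap (q 2) (q 3) * (swap (q 0) (q 1) * swap (q' 0) (q' 1)) =
        swap (q 2) (q 3) * swap (q' 0) (q' 1) by
      rw [(commute_swap (hne (i := 0) (j := 2) (by decide)) (hne (i := 0) (j := 3) (by decide))
        (hne (i := 1) (j := 2) (by decide)) (hne (i := 1) (j := 3) (by decide))).eq,
        mul_assoc, ← mul_assoc (swap (q 0) (q 1)), swap_mul_self, one_mul]] at this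
  have hP : ∀ g ∈ H, ∀ a b c d e f : α, a ≠ b → a ≠ c → a ≠ d → b ≠ c → b ≠ d →
      c ≠ d → a ≠ e → a ≠ f → b ≠ e → b ≠ f → e ≠ f → c ≠ e → c ≠ f → d ≠ e → d ≠ f →
      swap a b * swap c d ∈ H → swap a b * swap e f ∈ H → (a ∈ g '' B ↔ b ∈ g '' B) := by
    intro g hg a b c d e f hab hac had hbc hbd hcd hae haf hbe hbf hef hce hcf hde hdf h1 h2
    exact ⟨fun h => hpair g hg a b c d e f h hab hac had hbc hbd hcd hae haf hbe hbf hef hce hcf hde
        hdf h1 h2,
      fun h => hpair g hg b a c d e f h hab.symm hbc hbd hac had hcd hbe hbf hae haf hef hce hcf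
        hde hdf (swap_comm a b ▸ h1) (swap_comm a b ▸ h2)⟩
  have hx' : swap (q' 0) (q' 1) * swap (q 0) (q 1) ∈ H := by
    rw [← (commute_swap (hd 0 0) (hd 0 1) (hd 1 0) (hd 1 1)).eq]; exact hx
  have hw' : swap (q' 0) (q' 1) * swap (q 2) (q 3) ∈ H := by
    rw [← (commute_swap (hd 2 0) (hd 2 1) (hd 3 0) (hd 3 1)).eq]; exact hw
  have hvc : swap (q 2) (q 3) * swap (q 0) (q 1) ∈ H := by
    rw [← (commute_swap (hne (i := 0) (j := 2) (by decide)) (hne (i := 0) (j := 3) (by decide))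
        (hne (i := 1) (j := 2) (by decide)) (hne (i := 1) (j := 3) (by decide))).eq]; exact hv
  have hP0 : ∀ g ∈ H, (q 0 ∈ g '' B ↔ q 1 ∈ g '' B) := fun g hg =>
    hP g hg _ _ _ _ _ _ (hne (by decide)) (hne (by decide)) (hne (by decide)) (hne (by decide))
      (hne (by decide)) (hne (by decide)) (hd _ _) (hd _ _) (hd _ _) (hd _ _) (hne' (by decide))
      (hd _ _) (hd _ _) (hd _ _) (hd _ _) hv hx
  have hP1 : ∀ g ∈ H, (q 2 ∈ g '' B ↔ q 3 ∈ g '' B) := fun g hg =>
    hP g hg _ _ _ _ _ _ (hne (by decide)) (hne (by decide)) (hne (by decide)) (hne (by decide))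
      (hne (by decide)) (hne (by decide)) (hd _ _) (hd _ _) (hd _ _) (hd _ _) (hne' (by decide))
      (hd _ _) (hd _ _) (hd _ _) (hd _ _) hvc hw
  have hP2 : ∀ g ∈ H, (q' 0 ∈ g '' B ↔ q' 1 ∈ g '' B) := fun g hg =>
    hP g hg _ _ _ _ _ _ (hne' (by decide)) (hd _ _).symm (hd _ _).symm (hd _ _).symm (hd _ _).symm
      (hne (by decide)) (hd _ _).symm (hd _ _).symm (hd _ _).symm (hd _ _).symm (hne (by decide))
      (hne (by decide)) (hne (by decide)) (hne (by decide)) (hne (by decide)) hx' hw'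
  -- double transpositions on pairs fix every block
  have hK : ∀ a b c d : α, a ≠ b → a ≠ c → a ≠ d → b ≠ c → b ≠ d → c ≠ d →
      (∀ g ∈ H, (a ∈ g '' B ↔ b ∈ g '' B)) → (∀ g ∈ H, (c ∈ g '' B ↔ d ∈ g '' B)) →
      swap a b * swap c d ∈ H → swap a b * swap c d ∈ blockKernel H B := by
    intro a b c d hab hac had hbc hbd hcd h1 h2 hm
    refine ⟨hm, fun g hg => ?_⟩
    obtain ⟨t0, t1, t2, t3, t5⟩ := dbl_apply hab hac had hbc hbd hcd
    have hu : g⁻¹ * (swap a b * swap c d) * g ∈ H := H.mul_mem (H.mul_mem (H.inv_mem hg) hm) hg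
    refine hB.mem_stab hu haB ?_
    suffices h : (swap a b * swap c d) (g (q 0)) ∈ g '' B by
      obtain ⟨y, hy, hye⟩ := h
      rw [Perm.mul_apply, Perm.mul_apply, ← hye]
      simpa using hy
    have hg0 : g (q 0) ∈ g '' B := ⟨_, haB, rfl⟩
    by_cases e0 : g (q 0) = a
    · rw [e0, t0]; exact (h1 g hg).1 (e0 ▸ hg0)
    by_cases e1 : g (q 0) = b
    · rw [e1, t1]; exact (h1 g hg).2 (e1 ▸ hg0)
    by_cases e2 : g (q 0) = c
    · rw [e2, t2]; exact (h2 g hg).1 (e2 ▸ hg0)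
    by_cases e3 : g (q 0) = d
    · rw [e3, t3]; exact (h2 g hg).2 (e3 ▸ hg0)
    rw [t5 _ e0 e1 e2 e3]; exact hg0
  have hvK := hK _ _ _ _ (hne (by decide)) (hne (by decide)) (hne (by decide)) (hne (by decide))
    (hne (by decide)) (hne (by decide)) hP0 hP1 hv
  have hxK := hK _ _ _ _ (hne (by decide)) (hd _ _) (hd _ _) (hd _ _) (hd _ _)
    (hne' (by decide)) hP0 hP2 hx
  have hb1 : q 1 ∈ B := by
    have := (hP0 1 H.one_mem).1 ⟨_, haB, rfl⟩
    simpa using this
  refine hl₁a (ho.toQS.fix_pair (a := q 0) (b := q 1) ?_ l₁ hl₁)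
  rcases ho.block_cases hB hnO with h | ⟨hLB, -⟩
  · intro l hl y hy
    have hsupp : ∀ t, Commute t l → t y ≠ y → t (l y) ≠ l y := fun t hc hy he => hy (by
      rw [← Perm.mul_apply, hc.eq, Perm.mul_apply] at he
      exact l.injective he)
    have iv := dbl_supp (hne (i := 0) (j := 1) (by decide)) (hne (i := 0) (j := 2) (by decide))
      (hne (i := 0) (j := 3) (by decide)) (hne (i := 1) (j := 2) (by decide))
      (hne (i := 1) (j := 3) (by decide)) (hne (i := 2) (j := 3) (by decide))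
    have ix := dbl_supp (hne (i := 0) (j := 1) (by decide)) (hd 0 0) (hd 0 1) (hd 1 0) (hd 1 1)
      (hne' (i := 0) (j := 1) (by decide))
    have hy01 : y = q 0 ∨ y = q 1 := hy
    have m1 := (iv _).1 (hsupp _ (h _ hvK l hl) ((iv y).2 (by tauto)))
    have m2 := (ix _).1 (hsupp _ (h _ hxK l hl) ((ix y).2 (by tauto)))
    rcases m1 with h1 | h1 | h1 | h1
    · exact Or.inl h1
    · exact Or.inr h1
    all_goals
      rcases m2 with h2 | h2 | h2 | h2
      all_goals first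
        | exact Or.inl h2
        | exact Or.inr h2
        | exact absurd (h1.symm.trans h2) (hd _ _)
  · intro l hl y hy
    have hpairB : ({q 0, q 1} : Set α) = B := Set.eq_of_subset_of_ncard_le
      (Set.insert_subset haB (Set.singleton_subset_iff.2 hb1))
      (by rw [hB2, Set.ncard_pair (hne (by decide))])
    rw [hpairB] at hy ⊢
    exact (hLB l hl y).1 hy

/-- A group with quasisimple generalized Fitting subgroup and `k` linked quads. -/
theorem exists_alternating_of_quads {k : ℕ} (hk : 2 ≤ k) (f : Fin k → Fin 4 → α)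
    (hinj : Function.Injective fun x : Fin k × Fin 4 => f x.1 x.2) (hQ : QS H L)
    (hv : ∀ i, swap (f i 0) (f i 1) * swap (f i 2) (f i 3) ∈ H)
    (hs : ∀ i, swap (f i 0) (f i 2) * swap (f i 1) (f i 3) ∈ H)
    (hx : ∀ i j, i ≠ j → swap (f i 0) (f i 1) * swap (f j 0) (f j 1) ∈ H) :
    ∃ m, 4 * k ≤ m ∧ m ≤ Nat.card α ∧ Nonempty (↥L ≃* ↥(alternatingGroup (Fin m))) := by
  classical
  have hd : ∀ i j x y, i ≠ j → f i x ≠ f j y := fun i j x y hij h =>
    hij (congrArg Prod.fst (hinj (a₁ := (i, x)) (a₂ := (j, y)) h))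
  have hq : ∀ i, Quad H (f i) := fun i => ⟨fun x y h =>
    congrArg Prod.snd (hinj (a₁ := (i, x)) (a₂ := (i, y)) h), hv i, hs i⟩
  set i₀ : Fin k := ⟨0, by omega⟩
  set i₁ : Fin k := ⟨1, by omega⟩
  have h01 : i₀ ≠ i₁ := by simp [i₀, i₁]
  set O := orb H (f i₀ 0)
  have hsame : ∀ i x, f i x ∈ O := by
    intro i x
    have h0 : f i 0 ∈ O := by
      by_contra hni
      refine hQ.ne_bot ((Subgroup.eq_bot_iff_forall _).2 fun l hl => Equiv.ext fun u => ?_)
      by_cases hu : u ∈ O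
      · refine ((hq i).off hQ).1 l hl u fun hu' => hni ?_
        obtain ⟨h, hh, hhu⟩ := orb_trans u hu' (f i 0) (mem_orb_self _)
        exact hhu ▸ orb_inv h hh u hu
      · exact ((hq i₀).off hQ).1 l hl u hu
    obtain ⟨h, hh, hhu⟩ := ((hq i).off hQ).2 x
    exact hhu ▸ orb_inv h hh _ h0
  have ho : Orb H L O := ⟨hQ, orb_inv, orb_trans, ((hq i₀).off hQ).1⟩
  have hp : Prim H O := ho.prim_of_quads (hq i₀) (hq i₁) (fun x y => hd _ _ x y h01)
    (fun x => ⟨hsame _ x, hsame _ x⟩) (hx _ _ h01)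
  let u : Fin 4 → α := ![f i₀ 0, f i₀ 2, f i₁ 0, f i₁ 2]
  let w : Fin 4 → α := ![f i₀ 1, f i₀ 3, f i₁ 1, f i₁ 3]
  let e : Fin 4 ⊕ Fin 4 → Fin k × Fin 4 :=
    Sum.elim ![(i₀, 0), (i₀, 2), (i₁, 0), (i₁, 2)] ![(i₀, 1), (i₀, 3), (i₁, 1), (i₁, 3)]
  have heq : Sum.elim u w = (fun x : Fin k × Fin 4 => f x.1 x.2) ∘ e := by
    funext x
    rcases x with x | x <;> fin_cases x <;> rfl
  have hinje : Function.Injective e := by
    intro x y h
    rcases x with x | x <;> rcases y with y | y <;> fin_cases x <;> fin_cases y <;>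
      simp [e, h01, h01.symm] at h ⊢
  have hR : ∀ i, swap (u 0) (w 0) * swap (u i) (w i) ∈ H := by
    intro i
    fin_cases i
    · show swap (f i₀ 0) (f i₀ 1) * swap (f i₀ 0) (f i₀ 1) ∈ H
      rw [swap_mul_self]; exact H.one_mem
    · exact hv i₀
    · exact hx _ _ h01
    · show swap (f i₀ 0) (f i₀ 1) * swap (f i₁ 2) (f i₁ 3) ∈ H
      have := H.mul_mem (hx _ _ h01) (hv i₁)
      rwa [mul_assoc, ← mul_assoc (swap (f i₁ 0) (f i₁ 1)), swap_mul_self, one_mul] at this
  have hT := ho.not_noTri hp u w (heq ▸ hinj.comp hinje)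
    (fun i => by fin_cases i <;> exact ⟨hsame _ _, hsame _ _⟩) hR
  simp only [NoTri, not_forall, not_not] at hT
  obtain ⟨a, b, c, ha, hb, hc, hab, hac, hbc, hm⟩ := hT
  obtain ⟨-, -, -, hcx⟩ := tri_apply hab hac hbc
  obtain ⟨-, hiso⟩ := ho.iso_alternating hp ha hab hac hbc hm (fun x hx =>
    hcx x (fun e => hx (by rw [e]; exact ha)) (fun e => hx (by rw [e]; exact hb))
      (fun e => hx (by rw [e]; exact hc)))
  refine ⟨O.ncard, ?_, Set.ncard_le_card O, hiso⟩
  calc 4 * k = (Set.range fun x : Fin k × Fin 4 => f x.1 x.2).ncard := by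
        rw [← Nat.card_coe_set_eq, Nat.card_range_of_injective hinj, Nat.card_prod, Nat.card_fin,
          Nat.card_fin, mul_comm]
    _ ≤ O.ncard := Set.ncard_le_ncard (by rintro _ ⟨x, rfl⟩; exact hsame _ _)

end Cfsg.Agent.Lib.LAEven56.PermQS
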