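/-
Placing commuting elements of prime order inside a subgroup containing a Sylow subgroup.
-/
import Mathlib

set_option autoImplicit false

namespace Cfsg.Agent.Lib.LAEven56.PermQS

variable {G : Type*} [Group G]

/-- A set of commuting elements of exponent `p` generates a `p`-group. -/
theorem isPGroup_closure {p : ℕ} {S : Set G} (hc : ∀ x ∈ S, ∀ y ∈ S, Commute x y)
    (he : ∀ x ∈ S, x ^ p = 1) : IsPGroup p (Subgroup.closure S) := by
  have hcomm : ∀ x ∈ Subgroup.closure S, ∀ y ∈ Subgroup.closure S, Commute x y := by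
    intro x hx y hy
    have h1 : Subgroup.closure S ≤ Subgroup.centralizer S := (Subgroup.closure_le _).2 fun z hz =>
      Subgroup.mem_centralizer_iff.2 fun w hw => hc w hw z hz
    have h2 : Subgroup.closure S ≤ Subgroup.centralizer (Subgroup.closure S : Set G) :=
      (Subgroup.closure_le _).2 fun z hz => Subgroup.mem_centralizer_iff.2 fun w hw =>
        (Subgroup.mem_centralizer_iff.1 (h1 hw) z hz).symm
    exact Subgroup.mem_centralizer_iff.1 (h2 hy) x hx
  intro x
  refine ⟨1, Subtype.ext ?_⟩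
  rw [pow_one, SubmonoidClass.coe_pow, OneMemClass.coe_one]
  obtain ⟨x, hx⟩ := x
  show x ^ p = 1
  induction hx using Subgroup.closure_induction with
  | mem y hy => exact he y hy
  | one => exact one_pow _
  | mul y z hy hz iy iz => rw [(hcomm y hy z hz).mul_pow, iy, iz, one_mul]
  | inv y _ iy => rw [inv_pow, iy, inv_one]

/-- Some conjugate of a `p`-subgroup of `K` lies in a subgroup containing a Sylow subgroup of `K`. -/
theorem exists_conj_le [Finite G] {p : ℕ} [Fact p.Prime] (K H : Subgroup G) (P : Sylow p K)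
    (hP : (P : Subgroup K).map K.subtype ≤ H) (Q : Subgroup G) (hQK : Q ≤ K) (hQ : IsPGroup p Q) :
    ∃ σ : G, ∀ x ∈ Q, σ * x * σ⁻¹ ∈ H := by
  obtain ⟨R, hR⟩ := (hQ.comap_subtype (K := K)).exists_le_sylow
  obtain ⟨σ, hσ⟩ := MulAction.exists_smul_eq K R P
  refine ⟨σ, fun x hx => ?_⟩
  have h1 : (⟨x, hQK hx⟩ : K) ∈ (R : Subgroup K) := hR hx
  have h2 : σ * ⟨x, hQK hx⟩ * σ⁻¹ ∈ ((σ • R : Sylow p K) : Subgroup K) :=
    Subgroup.smul_mem_pointwise_smul _ (MulAut.conj σ) _ h1
  rw [hσ] at h2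
  exact hP ⟨_, h2, rfl⟩

end Cfsg.Agent.Lib.LAEven56.PermQS
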